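import Cfsg.Agent.H75.ClosedQd
import Cfsg.Agent.H60.StableZJ

/-!
Groups in which no automiser of a `p`-subgroup has a section `SL(2,p)` (`p` odd).
-/

set_option autoImplicit false

namespace Cfsg.Agent.H60

universe u

open Subgroup
open scoped commutatorElement
open Cfsg.Agent.H61 (cj Sect)
open Cfsg.Agent.H23 (IsSylowIn)

variable {p : ℕ} [Fact p.Prime]

/-- Every section is `p`-stable on its normal `p`-subgroups. -/
def SectStable (p : ℕ) (G : Type u) [Group G] : Prop :=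
  ∀ (X : Type u) [Group X] [Finite X], Sect X G → ∀ (V : Subgroup X) [V.Normal],
    IsPGroup p V → Cfsg.IsPStableOn p V

variable {G : Type u} [Group G] [Finite G]

/-- A quadratic failure of stability gives an `SL(2,p)` quotient of a subgroup, trivial on the centralizer. -/
theorem exists_sl2_of_not_stable {X : Type u} [Group X] [Finite X] (hp : p ≠ 2) {V : Subgroup X} [V.Normal]
    (hV : IsPGroup p V) (h : ¬ Cfsg.IsPStableOn p V) :
    ∃ (Y : Subgroup X) (φ : Y →* Matrix.SpecialLinearGroup (Fin 2) (ZMod p)), Function.Surjective φ ∧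
      ∀ y : Y, (y : X) ∈ centralizer (V : Set X) → φ y = 1 := by
  simp only [Cfsg.IsPStableOn, not_forall] at h
  obtain ⟨a, ha, hfail⟩ := h
  obtain ⟨g, hg⟩ : ∃ g : X, ¬ ∀ x ∈ closure ({a, g * a * g⁻¹} : Set X),
      ∃ k : ℕ, x ^ (p ^ k) ∈ centralizer (V : Set X) := by
    by_contra hall
    push Not at hall
    exact hfail (H35.mk_mem_pCore_of_forall _ a hall)
  have hquad : ∀ x ∈ V, ⁅a, ⁅a, x⁆⁆ = 1 := fun x hx =>
    H35.commutatorElement_quadratic ha (mem_zpowers a) hx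
  set N := (frattini V).map V.subtype with hN
  have hnK : ∀ y : X, y ∈ normalizer (V : Set X) := fun y => by rw [normalizer_eq_top]; exact mem_top y
  haveI : N.Normal := ConjAct.normal_of_characteristic_of_normal
  have hnN : ∀ y : X, y ∈ normalizer (N : Set X) := fun y => by rw [normalizer_eq_top]; exact mem_top y
  obtain ⟨H', W₁, φ, ψ, -, hWV, hφ, -, hsurj, heq⟩ := H35.exists_natural_section hp (map_subtype_le _)
    (hnK a) (hnN a) (hnK (g * a * g⁻¹)) (hnN _)
    (fun x hx => ⟨⟨x, hx⟩ ^ p, H24.pow_mem_frattini hV _, rfl⟩)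
    (fun x hx y hy => ⟨⁅(⟨x, hx⟩ : V), ⟨y, hy⟩⁆, H24.commutator_le_frattini hV
      (commutator_mem_commutator (mem_top _) (mem_top _)), by simp [commutatorElement_def]⟩)
    (fun x hx => by rw [hquad x hx]; exact one_mem N)
    (fun x hx => by
      have hx' : g⁻¹ * x * g ∈ V := by simpa using (Normal.conj_mem inferInstance x hx g⁻¹)
      have : ⁅g * a * g⁻¹, ⁅g * a * g⁻¹, x⁆⁆ = g * ⁅a, ⁅a, g⁻¹ * x * g⁆⁆ * g⁻¹ := by
        simp only [commutatorElement_def]; group
      rw [this, hquad _ hx', mul_one, mul_inv_cancel]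
      exact one_mem N)
    (by
      intro hall
      refine hg fun h hh => ?_
      obtain ⟨k, hk⟩ := hall h hh
      set u := h ^ (p ^ k) with hu
      set l := (orderOf u).factorization p
      refine ⟨k + l, ?_⟩
      rw [pow_add, pow_mul, ← hu]
      have hcopp : (orderOf (u ^ (p ^ l))).Coprime p := by
        rw [orderOf_pow' _ (pow_ne_zero _ (Fact.out : p.Prime).ne_zero),
          Nat.gcd_eq_right (Nat.ordProj_dvd _ _)]
        exact ((Fact.out : p.Prime).coprime_iff_not_dvd.2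
          (Nat.not_dvd_ordCompl Fact.out (orderOf_pos u).ne')).symm
      obtain ⟨s, hs⟩ := IsPGroup.iff_card.1 (hV.to_subgroup (frattini V))
      have hAC : zpowers (u ^ (p ^ l)) ≤ centralizer (V : Set X) := by
        refine H20.le_centralizer_of_trivial_on_frattini (fun y _ => hnK y) ?_ ?_
        · rw [Nat.card_zpowers, hs]; exact hcopp.pow_right s
        · intro y hy x hx
          obtain ⟨n, rfl⟩ := hy
          have hmem : u ∈ H35.sectionStab V N := fun x hx => hk x hx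
          exact zpow_mem (pow_mem hmem _) n x hx
      exact hAC (mem_zpowers _))
  refine ⟨H', φ, hφ, fun y hy => ?_⟩
  apply Subtype.ext
  apply Matrix.toLin'.injective
  refine LinearMap.ext fun d => ?_
  obtain ⟨x, hx, rfl⟩ := hsurj d
  obtain ⟨-, he⟩ := heq y x hx
  rw [← mem_centralizer_iff.1 hy x (hWV hx), mul_inv_cancel_right] at he
  rw [Matrix.toLin'_apply, ← he, Matrix.SpecialLinearGroup.coe_one, Matrix.toLin'_one, LinearMap.id_apply]

/-- No `SL(2,p)` in automisers makes every section `p`-stable. -/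
theorem sectStable_of_automiser_free (hp : p ≠ 2)
    (hfree : ∀ Q : Subgroup G, IsPGroup p ↥Q → ¬ ∃ (H K : Subgroup G) (_ : (K.subgroupOf H).Normal),
      centralizer (Q : Set G) ≤ K ∧ K ≤ H ∧ H ≤ normalizer (Q : Set G) ∧
      Nonempty ((↥H ⧸ K.subgroupOf H) ≃* Matrix.SpecialLinearGroup (Fin 2) (ZMod p))) :
    SectStable p G := by
  intro X _ _ ⟨H0, f, hf⟩ V _ hV
  by_contra hns
  obtain ⟨Y, φ, hφ, hker⟩ := exists_sl2_of_not_stable hp hV hns
  set U := V.comap f with hU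
  haveI : U.Normal := Normal.comap inferInstance f
  obtain ⟨P0⟩ : Nonempty (Sylow p U) := inferInstance
  set P1 := (P0 : Subgroup U).map U.subtype with hP1
  set N0 := normalizer (P1 : Set H0) with hN0
  have hfr : N0 ⊔ U = ⊤ := Sylow.normalizer_sup_eq_top P0
  have hP1f : P1.map f = V := by
    let f' : U →* V := (f.comp U.subtype).codRestrict V fun u => u.2
    have hf' : Function.Surjective f' := by
      rintro ⟨v, hv⟩
      obtain ⟨x, rfl⟩ := hf v
      exact ⟨⟨x, hv⟩, rfl⟩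
    have h1 : (P0 : Subgroup U).map f' = ⊤ := by
      rw [← Sylow.coe_mapSurjective hf' P0]
      exact (P0.mapSurjective hf').3 (hV.of_equiv topEquiv.symm) le_top |>.symm
    refine le_antisymm ?_ fun v hv => ?_
    · rintro _ ⟨_, ⟨u, -, rfl⟩, rfl⟩; exact u.2
    · obtain ⟨u, hu, e⟩ := h1.symm.le (mem_top (⟨v, hv⟩ : V))
      exact ⟨u, ⟨u, hu, rfl⟩, congrArg Subtype.val e⟩
  have hNf : ∀ y : X, ∃ n ∈ N0, f n = y := by
    intro y
    obtain ⟨x, rfl⟩ := hf y
    obtain ⟨n, hn, u, hu, rfl⟩ := mem_sup_of_normal_right.1 (hfr.symm.le (mem_top x))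
    obtain ⟨u', hu', e⟩ := hP1f.symm.le (hu : f u ∈ V)
    exact ⟨n * u', mul_mem hn (le_normalizer hu'), by rw [map_mul, map_mul, e]⟩
  set Y1 := N0 ⊓ Y.comap f with hY1
  let θ : Y1 →* Matrix.SpecialLinearGroup (Fin 2) (ZMod p) :=
    φ.comp ((f.comp Y1.subtype).codRestrict Y fun y => y.2.2)
  have hθ : Function.Surjective θ := by
    intro s
    obtain ⟨y, rfl⟩ := hφ s
    obtain ⟨n, hn, e⟩ := hNf y
    exact ⟨⟨n, hn, by show f n ∈ Y; rw [e]; exact y.2⟩, congrArg φ (Subtype.ext e)⟩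
  set Q := P1.map H0.subtype with hQ
  have hQp : IsPGroup p Q := (P0.2.map U.subtype).map H0.subtype
  set Hy := Y1.map H0.subtype with hHy
  set C := centralizer (Q : Set G) with hC
  have hHN : Hy ≤ normalizer (Q : Set G) :=
    (map_mono (inf_le_left : Y1 ≤ N0)).trans (le_normalizer_map _)
  -- the isomorphism `Hy ≃ Y1`
  let e := (Y1.equivMapOfInjective H0.subtype H0.subtype_injective)
  let θ' : Hy →* Matrix.SpecialLinearGroup (Fin 2) (ZMod p) := θ.comp e.symm.toMonoidHom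
  have hθ' : Function.Surjective θ' := hθ.comp e.symm.surjective
  have hθC : ∀ y : Hy, (y : G) ∈ C → θ' y = 1 := by
    intro y hy
    obtain ⟨z, rfl⟩ := e.surjective y
    show θ (e.symm (e z)) = 1
    rw [MulEquiv.symm_apply_apply]
    refine hker _ (mem_centralizer_iff.2 fun v hv => ?_)
    obtain ⟨q, hq, rfl⟩ := hP1f.symm.le hv
    have h1 := mem_centralizer_iff.1 hy (q : G) ⟨q, hq, rfl⟩
    show f q * f (z : H0) = f (z : H0) * f q
    rw [← map_mul, ← map_mul]
    exact congrArg f (Subtype.ext h1)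
  set K' := θ'.ker.map Hy.subtype with hK'
  have hCN : Hy ≤ normalizer (C : Set G) := hHN.trans normalizer_le_normalizer_centralizer
  have hKH : (K' ⊔ C).subgroupOf (Hy ⊔ C) |>.Normal := by
    refine normal_subgroupOf_iff_le_normalizer (sup_le_sup_right (map_subtype_le _) C) |>.2 ?_
    refine sup_le (le_normalizer_iff.2 fun h hh x hx => ?_) ?_
    · rw [← SetLike.mem_coe, coe_mul_of_left_le_normalizer_right _ _ ((map_subtype_le _).trans hCN)] at hx
      obtain ⟨k, hk, c, hc, rfl⟩ := hx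
      rw [show h * (k * c) * h⁻¹ = (h * k * h⁻¹) * (h * c * h⁻¹) by group]
      obtain ⟨k', hk', rfl⟩ := hk
      exact mul_mem_sup ⟨⟨h, hh⟩ * k' * ⟨h, hh⟩⁻¹, (MonoidHom.normal_ker θ').conj_mem _ hk' _, rfl⟩
        ((mem_normalizer_iff.1 (hCN hh) c).1 hc)
    · refine le_normalizer_iff.2 fun c hc x hx => ?_
      rw [← SetLike.mem_coe, coe_mul_of_left_le_normalizer_right _ _ ((map_subtype_le _).trans hCN)] at hx
      obtain ⟨k, hk, c', hc', rfl⟩ := hx
      rw [show c * (k * c') * c⁻¹ = k * ((k⁻¹ * c * k) * c' * c⁻¹) by group]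
      have hk' : k⁻¹ ∈ normalizer (C : Set G) := inv_mem (hCN (map_subtype_le _ hk))
      exact mul_mem_sup hk (mul_mem (mul_mem (by simpa using (mem_normalizer_iff.1 hk' c).1 hc) hc') (inv_mem hc))
  refine hfree Q hQp ⟨Hy ⊔ C, K' ⊔ C, hKH, le_sup_right, sup_le_sup_right (map_subtype_le _) C,
    sup_le hHN (centralizer_le_normalizer _), ?_⟩
  let incl : Hy →* ↥(Hy ⊔ C) := inclusion le_sup_left
  let q := (QuotientGroup.mk' ((K' ⊔ C).subgroupOf (Hy ⊔ C))).comp incl
  have hq : Function.Surjective q := by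
    intro z
    obtain ⟨⟨z, hz⟩, rfl⟩ := QuotientGroup.mk'_surjective _ z
    have hz' := hz
    rw [← SetLike.mem_coe, coe_mul_of_left_le_normalizer_right _ _ hCN] at hz'
    obtain ⟨h, hh, c, hc, rfl⟩ := hz'
    refine ⟨⟨h, hh⟩, (QuotientGroup.eq).2 ?_⟩
    show h⁻¹ * (h * c) ∈ K' ⊔ C
    rw [inv_mul_cancel_left]; exact mem_sup_right hc
  have hqk : q.ker = θ'.ker := by
    ext y
    rw [MonoidHom.mem_ker, MonoidHom.mem_ker]
    refine (QuotientGroup.eq_one_iff _).trans ?_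
    show (y : G) ∈ K' ⊔ C ↔ _
    constructor
    · intro hy
      rw [← SetLike.mem_coe, coe_mul_of_left_le_normalizer_right _ _ ((map_subtype_le _).trans hCN)] at hy
      obtain ⟨k, ⟨k', hk', rfl⟩, c, hc, e'⟩ := hy
      have hc' : ((k'⁻¹ * y : Hy) : G) ∈ C := by
        show (k' : G)⁻¹ * (y : G) ∈ C
        rw [← e']
        simpa using hc
      have h1 := hθC _ hc'
      rw [map_mul, map_inv, MonoidHom.mem_ker.1 hk', inv_one, one_mul] at h1
      exact h1
    · exact fun hy => mem_sup_left ⟨y, hy, rfl⟩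
  exact ⟨(QuotientGroup.quotientKerEquivOfSurjective q hq).symm.trans
    ((QuotientGroup.quotientMulEquivOfEq hqk).trans (QuotientGroup.quotientKerEquivOfSurjective θ' hθ'))⟩

/-- `Z(J(S))` controls strong fusion. -/
theorem acts_zj (hp : p ≠ 2) (hst : SectStable p G) (S : Sylow p G) :
    ∀ A : Subgroup G, A ≤ S → ∀ g : G, cj g A ≤ S →
      ActsFrom (normalizer (Cfsg.centerThompsonAOf (S : Subgroup G) : Set G)) A g := by
  have hclosed : H75.ClosedFus true p G := by
    refine H75.closedFus_main (G := G) (fun X _ _ hX hC => ?_) H61.sect_refl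
    intro S D hD A g _ hA hgA R _ hbase
    have hn := H75.zjOf_normal true hp S hD hC (fun V _ hV => hst X hX V hV)
    exact hbase _ rfl g ⟨mem_top g, by rw [normalizer_eq_top_iff.2 hn]; exact mem_top g⟩ A hA hgA
  intro A hA g hgA
  refine hclosed S (S : Subgroup G) ⟨le_rfl, fun s _ g hs => hs⟩ A g (mem_top g) hA hgA
    (ActsFrom (normalizer (Cfsg.centerThompsonAOf (S : Subgroup G) : Set G)))
    ⟨fun A B g h hg => hg.mono h, fun A g h h1 h2 => h1.mul h2, fun A g _ h => ⟨1, one_mem _, g,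
      mem_centralizer_iff.2 fun a ha => (mul_inv_eq_iff_eq_mul.1 (h a ha)).symm, (one_mul g).symm⟩⟩ ?_
  rintro _ rfl y hy B _ _
  exact ⟨y, hy.2, 1, one_mem _, (mul_one y).symm⟩

/-- Enlarging a normal `p`-subgroup which is not centric. -/
theorem enlarge_centric (hp : p ≠ 2) (hst : SectStable p G) (S : Sylow p G) (Q : Subgroup G) [Q.Normal]
    (hQp : IsPGroup p Q) (hT : ¬ (S : Subgroup G) ⊓ centralizer (Q : Set G) ≤ Q) :
    ∃ W : Subgroup G, W ≤ S ∧ ¬ W ≤ Q ∧ (S : Subgroup G) ≤ normalizer (W : Set G) ∧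
      ∀ A : Subgroup G, A ≤ S → ∀ g : G, cj g A ≤ S → ActsFrom (normalizer (W : Set G)) A g := by
  set N := centralizer (Q : Set G) with hN
  haveI hNn : N.Normal := inferInstanceAs (centralizer _).Normal
  set V := N ⊓ Q with hV
  haveI hVn : V.Normal := normal_inf_normal _ _
  haveI : (V.subgroupOf N).Normal := Normal.subgroupOf inferInstance _
  set T1 := (S : Subgroup G) ⊓ N with hT1
  have hT1s : IsSylowIn p T1 N :=
    sylowIn_inf (H61.sylowIn_of_le S (le_top : (S : Subgroup G) ≤ ⊤)) le_top (by rw [normalizer_eq_top N])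
  let S1 : Sylow p N := (hT1s.2.1.comap_subtype (K := N)).toSylow hT1s.2.2
  have hS1 : (S1 : Subgroup N) = T1.subgroupOf N := rfl
  have hQS : Q ≤ (S : Subgroup G) := (H19.le_pCore ‹Q.Normal› hQp).trans (H19.pCore_le_sylow S)
  set φ := QuotientGroup.mk' (V.subgroupOf N) with hφ
  have hφs : Function.Surjective φ := QuotientGroup.mk'_surjective _
  have hφk : φ.ker = V.subgroupOf N := QuotientGroup.ker_mk' _
  have hkc : φ.ker ≤ center N := by
    rw [hφk]
    exact fun v hv => mem_center_iff.2 fun x => Subtype.ext (mem_centralizer_iff.1 x.2 (v : G) hv.2).symm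
  have hkT : φ.ker ≤ (S1 : Subgroup N) := by
    rw [hφk, hS1]; exact fun v hv => ⟨hQS hv.2, v.2⟩
  set Sb := S1.mapSurjective hφs with hSb
  set W := Cfsg.centerThompsonAOf (Sb : Subgroup (N ⧸ V.subgroupOf N)) with hW
  set W2 := (W.comap φ).map N.subtype with hW2
  have ihq := acts_zj hp (fun X _ _ hX V _ hV => hst X (H61.sect_trans hX ⟨N, φ, hφs⟩) V hV) Sb
  have hSbne : (Sb : Subgroup (N ⧸ V.subgroupOf N)) ≠ ⊥ := by
    intro h
    rw [hSb, Sylow.coe_mapSurjective, Subgroup.map_eq_bot_iff, hφk] at h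
    exact hT fun x hx => (h (show (⟨x, hx.2⟩ : N) ∈ (S1 : Subgroup N) from hx)).2
  have hWne : W ≠ ⊥ := H35.centerThompsonAOf_ne_bot Sb.2 hSbne
  have hW2le : W2 ≤ T1 := by
    rintro _ ⟨x, hx, rfl⟩
    obtain ⟨t, ht, he⟩ : φ x ∈ (S1 : Subgroup N).map φ := by
      rw [← Sylow.coe_mapSurjective hφs S1]
      exact H35.centerThompsonAOf_le _ hx
    have h1 : t⁻¹ * x ∈ φ.ker := by rw [MonoidHom.mem_ker, map_mul, map_inv, he, inv_mul_cancel]
    have h2 : x ∈ (S1 : Subgroup N) := by simpa using mul_mem ht (hkT h1)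
    exact h2
  have hNT1 : normalizer (T1 : Set G) ≤ normalizer (W2 : Set G) := by
    intro x hx
    refine H61.mem_normalizer_of_cj (H61.cj_eq_of_le ?_)
    let eN : N ≃* N := MulAut.conjNormal x
    have hVmap : (V.subgroupOf N).map eN.toMonoidHom = V.subgroupOf N := by
      refine eq_of_le_of_card_ge ?_ ?_
      · rintro _ ⟨v, hv, rfl⟩
        show x * (v : G) * x⁻¹ ∈ V
        exact hVn.conj_mem _ hv x
      · rw [card_map_of_injective (K := V.subgroupOf N) (f := eN.toMonoidHom) eN.injective]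
    let eQ := QuotientGroup.congr (V.subgroupOf N) (V.subgroupOf N) eN hVmap
    have heQ : ∀ y : N, eQ (φ y) = φ (eN y) := fun y => rfl
    have hSbeQ : (Sb : Subgroup (N ⧸ V.subgroupOf N)).map eQ.toMonoidHom = (Sb : Subgroup _) := by
      refine eq_of_le_of_card_ge ?_ ?_
      · rw [hSb, Sylow.coe_mapSurjective]
        rintro _ ⟨_, ⟨t, ht, rfl⟩, rfl⟩
        exact ⟨eN t, (mem_normalizer_iff.1 hx (t : G)).1 ht, (heQ t).symm⟩
      · rw [card_map_of_injective (K := (Sb : Subgroup (N ⧸ V.subgroupOf N))) (f := eQ.toMonoidHom)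
          eQ.injective]
    have hWeQ : W.map eQ.toMonoidHom = W :=
      (H35.map_centerThompsonAOf eQ.toMonoidHom _ eQ.injective.injOn).trans (by rw [hSbeQ])
    rintro _ ⟨_, ⟨y, hy, rfl⟩, rfl⟩
    refine ⟨eN y, ?_, rfl⟩
    show φ (eN y) ∈ W
    rw [← heQ, ← hWeQ]
    exact mem_map_of_mem _ hy
  have hSN : (S : Subgroup G) ≤ normalizer (T1 : Set G) :=
    (le_inf le_normalizer (le_normalizer_of_normal (H := N))).trans inf_normalizer_le_normalizer_inf
  refine ⟨W2, hW2le.trans inf_le_left, fun h => hWne ?_, hSN.trans hNT1,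
    control_of_normal N S W2 hW2le (hSN.trans hNT1) ?_⟩
  · rw [eq_bot_iff]
    intro y hy
    obtain ⟨x, rfl⟩ := hφs y
    rw [mem_bot]
    exact (QuotientGroup.eq_one_iff x).2 ⟨x.2, h ⟨x, hy, rfl⟩⟩
  intro B hB x hxB
  have hfr : normalizer (T1 : Set G) ⊔ N = ⊤ := by
    have e : T1 = (S1 : Subgroup N).map N.subtype := by
      rw [hS1, subgroupOf_map_subtype, inf_eq_left.2 inf_le_right]
    rw [e]
    exact Sylow.normalizer_sup_eq_top S1
  obtain ⟨n, hn, y, hy, rfl⟩ := mem_sup_of_normal_left.1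
    ((sup_comm (a := N) (b := normalizer (T1 : Set G))).trans hfr ▸ mem_top x :
      x ∈ N ⊔ normalizer (T1 : Set G))
  refine ActsFrom.mul ⟨y, hNT1 hy, 1, one_mem _, (mul_one y).symm⟩ ?_
  set B' := cj y B with hB'
  have hB'T : B' ≤ T1 := (H61.cj_mono y hB).trans (H61.cj_eq_self hy).le
  have hnB' : cj n B' ≤ T1 := by rw [hB', H61.cj_cj]; exact hxB
  have hSW : (Sb : Subgroup (N ⧸ V.subgroupOf N)) = (S1 : Subgroup N).map φ :=
    Sylow.coe_mapSurjective hφs S1
  obtain ⟨h, hh, c, hc, e⟩ := acts_of_central_quotient φ hφs hkc S1 hkT W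
    (by rw [← hSW]; exact le_normalizer.trans (H35.normalizer_le_normalizer_centerThompsonAOf _))
    (fun C hC z hzC => by rw [← hSW] at hC hzC; exact ihq C hC z hzC)
    (B'.subgroupOf N) (fun z hz => hB'T hz) ⟨n, hn⟩ (by
      rintro _ ⟨z, hz, rfl⟩
      exact hnB' ⟨z, hz, rfl⟩)
  refine ⟨h, le_normalizer_map (H := W.comap φ) N.subtype ⟨h, hh, rfl⟩, c,
    mem_centralizer_iff.2 fun z hz => ?_, congrArg Subtype.val e⟩
  exact congrArg Subtype.val (mem_centralizer_iff.1 hc ⟨z, (hB'T hz).2⟩ hz)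

/-- Enlarging a normal centric `p`-subgroup which is not radical. -/
theorem enlarge_radical (S : Sylow p G) (Q X : Subgroup G) [Q.Normal] [X.Normal]
    (hQp : IsPGroup p Q) (hT : (S : Subgroup G) ⊓ centralizer (Q : Set G) ≤ Q)
    (hX : Q ⊔ centralizer (Q : Set G) ≤ X) {k : ℕ}
    (hk : (Q ⊔ centralizer (Q : Set G)).relIndex X = p ^ k) :
    ∃ W : Subgroup G, W ≤ S ∧ X ≤ W ⊔ centralizer (Q : Set G) ∧ (S : Subgroup G) ≤ normalizer (W : Set G) ∧
      ∀ A : Subgroup G, A ≤ S → ∀ g : G, cj g A ≤ S → ActsFrom (normalizer (W : Set G)) A g := by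
  set C := centralizer (Q : Set G) with hC
  haveI : C.Normal := inferInstanceAs (centralizer _).Normal
  have hQS : Q ≤ (S : Subgroup G) := (H19.le_pCore ‹Q.Normal› hQp).trans (H19.pCore_le_sylow S)
  set W := (S : Subgroup G) ⊓ X with hW
  have hWs : IsSylowIn p W X :=
    sylowIn_inf (H61.sylowIn_of_le S (le_top : (S : Subgroup G) ≤ ⊤)) le_top (by rw [normalizer_eq_top X])
  have hQW : Q ≤ W := le_inf hQS (le_sup_left.trans hX)
  have hXle : X ≤ W ⊔ C := by
    refine H61.le_of_sylowIn_of_coprime hWs le_sup_left fun y hy hyc => ?_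
    haveI : ((Q ⊔ C).subgroupOf X).Normal := Normal.subgroupOf inferInstance _
    have h1 : y ^ p ^ k ∈ Q ⊔ C := by
      have := pow_index_mem ((Q ⊔ C).subgroupOf X) (⟨y, hy⟩ : X)
      rw [show ((Q ⊔ C).subgroupOf X).index = (Q ⊔ C).relIndex X from rfl, hk] at this
      exact this
    obtain ⟨r, hr⟩ := exists_pow_eq_self_of_coprime ((hyc.pow_right k).symm)
    exact (sup_le_sup_right hQW C) (hr ▸ pow_mem h1 r)
  have hSW : (S : Subgroup G) ≤ normalizer (W : Set G) :=
    (le_inf le_normalizer (le_normalizer_of_normal (H := X))).trans inf_normalizer_le_normalizer_inf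
  have hCs : IsSylowIn p ((S : Subgroup G) ⊓ C) C :=
    sylowIn_inf (H61.sylowIn_of_le S (le_top : (S : Subgroup G) ≤ ⊤)) le_top (by rw [normalizer_eq_top C])
  refine ⟨W, inf_le_left, hXle, hSW, control_of_normal X S W le_rfl hSW ?_⟩
  intro B hB x hxB
  obtain ⟨m, hm, hmW⟩ := H61.exists_cj_eq (T := cj x W) (T' := W) (by
    have := H61.sylowIn_cj hWs x
    rwa [H61.cj_normal x X] at this) hWs
  rw [H61.cj_cj] at hmW
  have hn : m * x ∈ normalizer (W : Set G) := H61.mem_normalizer_of_cj hmW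
  have hm' : m⁻¹ ∈ W ⊔ C := hXle (inv_mem hm)
  obtain ⟨s, hs, c', hc', e⟩ := mem_sup_of_normal_right.1 hm'
  set n := m * x with hndef
  have hx : x = s * c' * n := by rw [e, hndef, inv_mul_cancel_left]
  set B1 := cj n B with hB1
  have hB1W : B1 ≤ W := (H61.cj_mono n hB).trans (H61.cj_eq_self hn).le
  have hcB1 : cj c' B1 ≤ W := by
    have h1 : cj s (cj c' B1) ≤ W := by
      rw [hB1, H61.cj_cj, H61.cj_cj, ← hx]; exact hxB
    have h2 := H61.cj_mono s⁻¹ h1
    rw [H61.cj_cj, inv_mul_cancel, H61.cj_one, H61.cj_eq_self (le_normalizer (inv_mem hs))] at h2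
    exact h2
  -- `c'` is a product of an element of `Q` and one centralizing `B1`
  have hZc : ∀ z ∈ Q, ∀ c ∈ C, c * z = z * c := fun z hz c hc => (mem_centralizer_iff.1 hc z hz).symm
  have hpart : ∀ c ∈ C, (∃ j : ℕ, c ^ p ^ j = 1) → c ∈ Q := by
    intro c hc ⟨j, hj⟩
    have hp' : IsPGroup p ↥(zpowers c) := by
      obtain ⟨i, -, hi⟩ := (Nat.dvd_prime_pow Fact.out).1 (orderOf_dvd_of_pow_eq_one hj)
      exact IsPGroup.of_card (n := i) (by rw [Nat.card_zpowers, hi])
    obtain ⟨d, hd, hdle⟩ := H61.exists_cj_le hCs (zpowers_le.2 hc) hp'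
    have h1 : d * c * d⁻¹ ∈ Q := hT (hdle ⟨c, mem_zpowers c, rfl⟩)
    simpa [mul_assoc] using (inferInstance : Q.Normal).conj_mem _ h1 d⁻¹
  set r := orderOf c'
  set a := r.factorization p
  have hrpos : 0 < r := orderOf_pos c'
  have hcop : (p ^ a).Coprime (r / p ^ a) :=
    Nat.Coprime.pow_left _ ((Fact.out : p.Prime).coprime_iff_not_dvd.2
      (Nat.not_dvd_ordCompl Fact.out hrpos.ne'))
  have hz : c' ^ (r / p ^ a) ∈ Q := hpart _ (pow_mem hc' _) ⟨a, by
    rw [← pow_mul, Nat.div_mul_cancel (Nat.ordProj_dvd _ _), pow_orderOf_eq_one]⟩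
  have hu : c' ^ p ^ a ∈ centralizer (B1 : Set G) := by
    set u := c' ^ p ^ a with hudef
    refine mem_centralizer_iff.2 fun b hb => ?_
    have huC : u ∈ C := pow_mem hc' _
    have h1 : c' * b * c'⁻¹ * b⁻¹ ∈ Q := by
      refine hT ⟨mul_mem (hcB1 ⟨b, hb, rfl⟩).1 (Subgroup.inv_mem _ (hB1W hb).1), ?_⟩
      have := mul_mem hc' ((inferInstance : C.Normal).conj_mem _ (Subgroup.inv_mem C hc') b)
      simpa [mul_assoc] using this
    set ζ := c' * b * c'⁻¹ * b⁻¹ with hζ
    have hiter : ∀ i : ℕ, c' ^ i * b * (c' ^ i)⁻¹ = ζ ^ i * b := by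
      intro i
      induction i with
      | zero => simp
      | succ i ih =>
        rw [pow_succ' c', show c' * c' ^ i * b * (c' * c' ^ i)⁻¹ = c' * (c' ^ i * b * (c' ^ i)⁻¹) * c'⁻¹ by group,
          ih, show c' * (ζ ^ i * b) * c'⁻¹ = (c' * ζ ^ i) * b * c'⁻¹ by group, hZc _ (pow_mem h1 i) c' hc',
          pow_succ, hζ]
        group
    obtain ⟨i, hi⟩ := hQp ⟨ζ, h1⟩
    have hi' : ζ ^ p ^ i = 1 := congrArg Subtype.val hi
    have hr' : ζ ^ r = 1 := by
      have := hiter r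
      rw [pow_orderOf_eq_one, one_mul, inv_one, mul_one] at this
      exact mul_eq_right.1 this.symm
    have hdvd : orderOf ζ ∣ p ^ a := by
      have h1 := Nat.dvd_gcd (orderOf_dvd_of_pow_eq_one hi') (orderOf_dvd_of_pow_eq_one hr')
      refine h1.trans ?_
      obtain ⟨j, -, hj⟩ := (Nat.dvd_prime_pow Fact.out).1 (Nat.gcd_dvd_left (p ^ i) r)
      rw [hj]
      exact Nat.pow_dvd_pow p ((Nat.Prime.pow_dvd_iff_le_factorization Fact.out hrpos.ne').1
        (hj ▸ Nat.gcd_dvd_right _ _))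
    have h2 := hiter (p ^ a)
    rw [orderOf_dvd_iff_pow_eq_one.1 hdvd, one_mul, mul_inv_eq_iff_eq_mul] at h2
    exact h2.symm
  obtain ⟨u1, v1, huv⟩ : ∃ u1 v1 : ℤ, (1 : ℤ) = (p ^ a : ℕ) * u1 + (r / p ^ a : ℕ) * v1 :=
    ⟨_, _, (congrArg (Nat.cast : ℕ → ℤ) hcop.gcd_eq_one).symm.trans (Nat.gcd_eq_gcd_ab _ _) |>.trans rfl⟩
  have hc'eq : c' = (c' ^ (r / p ^ a)) ^ v1 * (c' ^ p ^ a) ^ u1 := by
    rw [← zpow_natCast c' (r / p ^ a), ← zpow_natCast c' (p ^ a), ← zpow_mul, ← zpow_mul, ← zpow_add,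
      add_comm, ← huv, zpow_one]
  set z := (c' ^ (r / p ^ a)) ^ v1
  set w := (c' ^ p ^ a) ^ u1
  have hw : w ∈ centralizer (B1 : Set G) := zpow_mem hu _
  refine ⟨s * z * n, mul_mem (mul_mem (le_normalizer hs) (le_normalizer (hQW (zpow_mem hz _)))) hn,
    n⁻¹ * w * n, mem_centralizer_iff.2 fun b hb => ?_, ?_⟩
  · have h1 := mem_centralizer_iff.1 hw (n * b * n⁻¹) ⟨b, hb, rfl⟩
    calc b * (n⁻¹ * w * n) = n⁻¹ * (n * b * n⁻¹ * w) * n := by group
      _ = n⁻¹ * (w * (n * b * n⁻¹)) * n := by rw [h1]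
      _ = n⁻¹ * w * n * b := by group
  · rw [hx, hc'eq]; group

end Cfsg.Agent.H60
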