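import Mathlib

/-! Pairs of involutions and isolated points of an involution. -/

set_option autoImplicit false

namespace Cfsg.Agent.H60

variable {G : Type*} [Group G]

/-- An element of order 2 squares to one. -/
theorem inv_mul_self {a : G} (ha : orderOf a = 2) : a * a = 1 := by
  rw [← sq, ← ha, pow_orderOf_eq_one]

/-- An element of order 2 is its own inverse. -/
theorem invol_inv {a : G} (ha : orderOf a = 2) : a⁻¹ = a :=
  inv_eq_of_mul_eq_one_right (inv_mul_self ha)

/-- `a` inverts every power of `a * b`. -/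
theorem invol_conj_prod_pow {a b : G} (ha : a * a = 1) (hb : b * b = 1) (k : ℕ) :
    a * (a * b) ^ k * a = ((a * b) ^ k)⁻¹ := by
  have ha' : a⁻¹ = a := inv_eq_of_mul_eq_one_right ha
  have hb' : b⁻¹ = b := inv_eq_of_mul_eq_one_right hb
  rw [← inv_pow, mul_inv_rev, ha', hb']
  have : a * (a * b) * a⁻¹ = b * a := by rw [ha', ← mul_assoc a a b, ha, one_mul]
  rw [← this, conj_pow, ha']

/-- Two involutions with product of odd order are conjugate by a power of the product. -/
theorem conj_of_odd_prod {a b : G} (ha : a * a = 1) (hb : b * b = 1)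
    (hodd : Odd (orderOf (a * b))) :
    ∃ k : ℕ, (a * b) ^ k * a * ((a * b) ^ k)⁻¹ = b := by
  obtain ⟨k, hk⟩ := hodd
  refine ⟨k, ?_⟩
  have h := invol_conj_prod_pow ha hb k
  rw [← h, ← mul_assoc, ← mul_assoc, mul_assoc ((a * b) ^ k) a a, ha, mul_one, ← pow_add]
  have h1 : (a * b) ^ (k + k) * (a * b) = 1 := by
    rw [← pow_succ, ← two_mul, ← hk, pow_orderOf_eq_one]
  calc (a * b) ^ (k + k) * a = (a * b) ^ (k + k) * (a * b) * b := by
        rw [mul_assoc ((a * b) ^ (k + k)) (a * b) b, mul_assoc a b b, hb, mul_one]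
    _ = b := by rw [h1, one_mul]

/-- A power of the product times the first involution is conjugate to one of the two involutions. -/
theorem refl_isConj {a b : G} (ha : a * a = 1) (hb : b * b = 1) (k : ℕ) :
    IsConj a (a * (a * b) ^ k) ∨ IsConj b (a * (a * b) ^ k) := by
  have ha' : a⁻¹ = a := inv_eq_of_mul_eq_one_right ha
  have key : ∀ j : ℕ, a * (a * b) ^ j = ((a * b) ^ j)⁻¹ * a := fun j => by
    rw [← invol_conj_prod_pow ha hb j, mul_assoc, ha, mul_one]
  rcases Nat.even_or_odd' k with ⟨j, rfl | rfl⟩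
  · left
    rw [isConj_iff]
    refine ⟨((a * b) ^ j)⁻¹, ?_⟩
    rw [inv_inv, ← key, two_mul, pow_add, mul_assoc]
  · right
    rw [isConj_iff]
    refine ⟨((a * b) ^ j)⁻¹, ?_⟩
    rw [inv_inv]
    have hba : b = a * (a * b) := by rw [← mul_assoc, ha, one_mul]
    calc ((a * b) ^ j)⁻¹ * b * (a * b) ^ j
        = ((a * b) ^ j)⁻¹ * (a * (a * b)) * (a * b) ^ j := by rw [← hba]
      _ = (((a * b) ^ j)⁻¹ * a) * ((a * b) * (a * b) ^ j) := by simp only [mul_assoc]
      _ = (a * (a * b) ^ j) * (a * b) ^ (j + 1) := by rw [← key, pow_succ']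
      _ = a * (a * b) ^ (2 * j + 1) := by rw [mul_assoc, ← pow_add]; congr 2; omega

/-- An involutive map with exactly one fixed point lives on a set of odd size. -/
theorem odd_card_of_involutive {α : Type*} [Finite α] (σ : α → α) (hσ : Function.Involutive σ) (a : α)
    (hfix : ∀ x, σ x = x ↔ x = a) : Odd (Nat.card α) := by
  classical
  have : Fintype α := Fintype.ofFinite α
  have h := Equiv.Perm.card_fixedPoints_modEq (α := α) (f := (σ : Function.End α)) (p := 2) (n := 1)
    (by
      funext x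
      exact hσ x)
  have h2 : Fintype.card (Function.fixedPoints (σ : Function.End α)) = 1 :=
    Fintype.card_eq_one_iff.2 ⟨⟨a, (hfix a).2 rfl⟩, fun x => Subtype.ext ((hfix x.1).1 x.2)⟩
  rw [h2] at h
  rw [Nat.card_eq_fintype_card, Nat.odd_iff]
  exact h

/-- If the product of two involutions has even order, its central involution. -/
theorem exists_invol_of_even_prod [Finite G] {a b : G} (ha : a * a = 1) (hb : b * b = 1)
    (hev : Even (orderOf (a * b))) :
    ∃ k : ℕ, orderOf ((a * b) ^ k) = 2 ∧ Commute ((a * b) ^ k) a ∧ Commute ((a * b) ^ k) b := by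
  obtain ⟨k, hk⟩ := hev
  have hpos : 0 < orderOf (a * b) := orderOf_pos _
  refine ⟨k, ?_, ?_⟩
  · rw [orderOf_pow' _ (by omega), hk, ← two_mul, Nat.gcd_comm,
      Nat.gcd_eq_left (dvd_mul_left k 2), Nat.mul_div_cancel _ (by omega)]
  · set w := (a * b) ^ k with hw
    have hw2 : w * w = 1 := by rw [hw, ← pow_add, ← hk, pow_orderOf_eq_one]
    have hc : Commute w a := by
      have h := invol_conj_prod_pow ha hb k
      rw [← hw, inv_eq_of_mul_eq_one_right hw2] at h
      show w * a = a * w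
      calc w * a = a * a * w * a := by rw [ha, one_mul]
        _ = a * (a * w * a) := by group
        _ = a * w := by rw [h]
    refine ⟨hc, ?_⟩
    have hwx : Commute w (a * b) := (Commute.refl (a * b)).pow_left k
    have : b = a * (a * b) := by rw [← mul_assoc, ha, one_mul]
    rw [this]
    exact hc.mul_right hwx

/-- The standing hypotheses: `z` fixes only the trivial coset of `H`, and no involution of `H` is a product
of two commuting conjugates of `z` outside `H`. -/
structure IsolatedPoint (z : G) (H : Subgroup G) : Prop where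
  order_two : orderOf z = 2
  fix : ∀ g : G, g⁻¹ * z * g ∈ H ↔ g ∈ H
  noPair : ∀ b : G, IsConj z b → b ∉ H → ∀ w ∈ H, orderOf w = 2 → Commute w b → IsConj z (b * w) → False

namespace IsolatedPoint

variable {z : G} {H : Subgroup G}

theorem mem (h : IsolatedPoint z H) : z ∈ H := by
  simpa using (h.fix 1).2 H.one_mem

theorem centralizer_le (h : IsolatedPoint z H) : Subgroup.centralizer ({z} : Set G) ≤ H := by
  intro y hy
  rw [Subgroup.mem_centralizer_singleton_iff] at hy
  apply (h.fix y).1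
  have : y⁻¹ * z * y = z := by rw [mul_assoc, ← hy, inv_mul_cancel_left]
  rw [this]; exact h.mem

theorem sq_one (h : IsolatedPoint z H) {b : G} (hb : IsConj z b) : b * b = 1 := by
  obtain ⟨g, rfl⟩ := isConj_iff.1 hb
  calc g * z * g⁻¹ * (g * z * g⁻¹) = g * (z * z) * g⁻¹ := by group
    _ = 1 := by rw [inv_mul_self h.order_two]; group

variable [Finite G]

/-- Two conjugates of `z` outside `H` in one left coset of `C(z)` are equal. -/
theorem eq_of_prod_mem (h : IsolatedPoint z H) {b b' : G} (hb : IsConj z b) (hb' : IsConj z b')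
    (hbH : b ∉ H) (hc : b * b' ∈ Subgroup.centralizer ({z} : Set G)) : b = b' := by
  have hb2 := h.sq_one hb
  have hb2' := h.sq_one hb'
  have hz2 := inv_mul_self h.order_two
  have hodd : Odd (orderOf (b * b')) := by
    rw [← Nat.not_even_iff_odd]
    intro hev
    obtain ⟨k, hk2, hkb, -⟩ := exists_invol_of_even_prod hb2 hb2' hev
    refine h.noPair b hb hbH _ (H.pow_mem (h.centralizer_le hc) k) hk2 hkb ?_
    rcases refl_isConj hb2 hb2' k with hh | hh
    · exact hb.trans hh
    · exact hb'.trans hh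
  have hzb : Odd (orderOf (z * b)) := by
    rw [← Nat.not_even_iff_odd]
    intro hev
    obtain ⟨k, hk2, hkz, hkb⟩ := exists_invol_of_even_prod hz2 hb2 hev
    have hkH : (z * b) ^ k ∈ H := h.centralizer_le (Subgroup.mem_centralizer_singleton_iff.2 hkz.eq)
    refine h.noPair b hb hbH _ hkH hk2 hkb ?_
    rw [← hkb.eq]
    have hh : IsConj z (b * (b * z) ^ k) := by
      rcases refl_isConj hb2 hz2 k with hh | hh
      · exact hb.trans hh
      · exact hh
    have he : b * (b * z) ^ k = (z * b) ^ k * b := by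
      have h1 : b * (z * b) * b⁻¹ = b * z := by group
      rw [← h1, conj_pow, ← mul_assoc, ← mul_assoc, hb2, one_mul, inv_eq_of_mul_eq_one_right hb2]
    rwa [he] at hh
  set c := b * b' with hcdef
  have hzc : Commute z c := (Subgroup.mem_centralizer_singleton_iff.1 hc).symm
  have hbc : b * c * b = c⁻¹ := by
    have := invol_conj_prod_pow hb2 hb2' 1
    rwa [pow_one, ← hcdef] at this
  obtain ⟨k, hk⟩ := conj_of_odd_prod hz2 hb2 hzb
  set N := Subgroup.normalizer ((Subgroup.zpowers c : Subgroup G) : Set G) with hN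
  have hzN : z ∈ N := by
    rw [hN]
    apply Subgroup.centralizer_le_normalizer
    rw [Subgroup.mem_centralizer_iff]
    rintro x hx
    obtain ⟨i, rfl⟩ := Subgroup.mem_zpowers_iff.1 hx
    exact (hzc.zpow_right i).symm.eq
  have hbi : b⁻¹ = b := inv_eq_of_mul_eq_one_right hb2
  have hbN : b ∈ N := by
    rw [hN, Subgroup.mem_normalizer_iff]
    intro x
    have key : ∀ y, y ∈ Subgroup.zpowers c → b * y * b⁻¹ ∈ Subgroup.zpowers c := by
      intro y hy
      obtain ⟨i, rfl⟩ := Subgroup.mem_zpowers_iff.1 hy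
      rw [← conj_zpow, hbi, hbc]
      exact Subgroup.zpow_mem _ (Subgroup.inv_mem _ (Subgroup.mem_zpowers c)) i
    refine ⟨key x, fun hx => ?_⟩
    have := key _ hx
    rw [hbi] at this
    have he : b * (b * x * b) * b = x := by
      calc b * (b * x * b) * b = (b * b) * x * (b * b) := by group
        _ = x := by rw [hb2]; group
    rwa [he] at this
  set d := (z * b) ^ k with hd
  have hdN : d ∈ N := N.pow_mem (N.mul_mem hzN hbN) k
  have h1 : d⁻¹ * c * d ∈ Subgroup.zpowers c := by
    have := (Subgroup.mem_normalizer_iff.1 (hN ▸ N.inv_mem hdN) c).1 (Subgroup.mem_zpowers c)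
    simpa using this
  obtain ⟨i, hi⟩ := Subgroup.mem_zpowers_iff.1 h1
  have h2 : b * c * b⁻¹ = c := by
    rw [← hk]
    calc d * z * d⁻¹ * c * (d * z * d⁻¹)⁻¹ = d * (z * (d⁻¹ * c * d)) * z⁻¹ * d⁻¹ := by group
      _ = d * (d⁻¹ * c * d * z) * z⁻¹ * d⁻¹ := by rw [← hi, (hzc.zpow_right i).eq]
      _ = c := by group
  rw [hbi, hbc] at h2
  have h3 : c ^ 2 = 1 := by
    rw [sq]; nth_rewrite 1 [← h2]; exact inv_mul_cancel c
  have h4 : orderOf c ∣ 2 := orderOf_dvd_of_pow_eq_one h3
  have h5 : orderOf c = 1 := by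
    rcases (Nat.dvd_prime Nat.prime_two).1 h4 with h5 | h5
    · exact h5
    · rw [h5] at hodd; exact absurd hodd (by decide)
  rw [orderOf_eq_one_iff, hcdef] at h5
  calc b = b * (b * b') := by rw [h5, mul_one]
    _ = b' := by rw [← mul_assoc, hb2, one_mul]

omit [Finite G] in
/-- The map from cosets of `C(z)` to conjugates of `z`. -/
theorem conjBy_inj {x y : G} (hxy : x * z * x⁻¹ = y * z * y⁻¹) :
    x⁻¹ * y ∈ Subgroup.centralizer ({z} : Set G) := by
  rw [Subgroup.mem_centralizer_singleton_iff]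
  calc x⁻¹ * y * z = x⁻¹ * (y * z * y⁻¹) * y := by group
    _ = x⁻¹ * (x * z * x⁻¹) * y := by rw [hxy]
    _ = z * (x⁻¹ * y) := by group

/-- Every left coset of `C(z)` outside `H` contains a conjugate of `z`. -/
theorem exists_mem_coset (h : IsolatedPoint z H) {g : G} (hg : g ∉ H) :
    ∃ b : G, IsConj z b ∧ b ∉ H ∧ g⁻¹ * b ∈ Subgroup.centralizer ({z} : Set G) := by
  classical
  set C := Subgroup.centralizer ({z} : Set G) with hC
  let e : G ⧸ C → {x : G // IsConj z x} := fun q =>
    ⟨q.out * z * q.out⁻¹, isConj_iff.2 ⟨q.out, rfl⟩⟩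
  have he : Function.Bijective e := by
    constructor
    · intro p q hpq
      rw [← QuotientGroup.out_eq' p, ← QuotientGroup.out_eq' q, QuotientGroup.eq]
      exact conjBy_inj (congrArg Subtype.val hpq)
    · rintro ⟨x, hx⟩
      obtain ⟨y, rfl⟩ := isConj_iff.1 hx
      obtain ⟨c, hcm⟩ := QuotientGroup.mk_out_eq_mul C y
      refine ⟨(y : G ⧸ C), Subtype.ext ?_⟩
      show (y : G ⧸ C).out * z * (y : G ⧸ C).out⁻¹ = _
      rw [hcm, mul_inv_rev]
      have := Subgroup.mem_centralizer_singleton_iff.1 c.2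
      calc y * (c : G) * z * ((c : G)⁻¹ * y⁻¹) = y * ((c : G) * z) * (c : G)⁻¹ * y⁻¹ := by group
        _ = y * z * y⁻¹ := by rw [this]; group
  let E := Equiv.ofBijective e he
  let ψ : {x : G // IsConj z x} → G ⧸ C := fun x =>
    if (x : G) ∈ H then E.symm x else ((x : G) : G ⧸ C)
  have hin : ∀ x : {x : G // IsConj z x}, (x : G) ∈ H → (E.symm x).out ∈ H := by
    intro x hx
    have h1 : (E.symm x).out * z * (E.symm x).out⁻¹ = x.1 := congrArg Subtype.val (E.apply_symm_apply x)
    have h2 := (h.fix (E.symm x).out⁻¹).1 (by rw [inv_inv, h1]; exact hx)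
    simpa using H.inv_mem h2
  have hout : ∀ y : G, y ∉ H → (y : G ⧸ C).out ∉ H := by
    intro y hy h1
    obtain ⟨c, hcm⟩ := QuotientGroup.mk_out_eq_mul C y
    rw [hcm] at h1
    exact hy ((H.mul_mem_cancel_right (h.centralizer_le c.2)).1 h1)
  have hψ : Function.Injective ψ := by
    intro x y hxy
    simp only [ψ] at hxy
    split_ifs at hxy with hx hy hy
    · exact E.symm.injective hxy
    · exact absurd (hxy ▸ hin x hx) (hout y.1 hy)
    · exact absurd (hxy ▸ hin y hy) (hxy ▸ hout x.1 hx)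
    · refine Subtype.ext (h.eq_of_prod_mem x.2 y.2 hx ?_)
      have := QuotientGroup.eq.1 hxy
      rwa [inv_eq_of_mul_eq_one_right (h.sq_one x.2)] at this
  have hψ' : Function.Surjective ψ :=
    ((Nat.bijective_iff_injective_and_card ψ).2 ⟨hψ, (Nat.card_congr E).symm⟩).2
  obtain ⟨x, hx⟩ := hψ' (g : G ⧸ C)
  simp only [ψ] at hx
  split_ifs at hx with hxH
  · exact absurd (hx ▸ hin x hxH) (hout g hg)
  · exact ⟨x.1, x.2, hxH, QuotientGroup.eq.1 hx.symm⟩

/-- The index of `C(z)` in `H` is odd. -/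
theorem odd_relIndex (h : IsolatedPoint z H) (hH : H ≠ ⊤) :
    Odd ((Subgroup.centralizer ({z} : Set G)).relIndex H) := by
  classical
  set C := Subgroup.centralizer ({z} : Set G) with hC
  obtain ⟨g, hg⟩ : ∃ g : G, g ∉ H := by
    by_contra hh
    push Not at hh
    exact hH ((Subgroup.eq_top_iff' H).2 hh)
  obtain ⟨b0, hb0, hb0H, -⟩ := h.exists_mem_coset hg
  have hb2 := h.sq_one hb0
  have hbi : b0⁻¹ = b0 := inv_eq_of_mul_eq_one_right hb2
  let T := {b : G // IsConj z b ∧ b0 * b ∈ H}
  have hTH : ∀ b : T, b.1 ∉ H := fun b hb => hb0H (by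
    have := H.mul_mem b.2.2 (H.inv_mem hb)
    simpa [mul_assoc] using this)
  let φ : T → ↥H ⧸ C.subgroupOf H := fun b => (⟨b0 * b.1, b.2.2⟩ : H)
  have hφ : Function.Bijective φ := by
    constructor
    · intro x y hxy
      have := QuotientGroup.eq.1 hxy
      rw [Subgroup.mem_subgroupOf] at this
      refine Subtype.ext (h.eq_of_prod_mem x.2.1 y.2.1 (hTH x) ?_)
      simpa [hbi, mul_assoc, ← mul_assoc b0 b0, hb2,
        inv_eq_of_mul_eq_one_right (h.sq_one x.2.1)] using this
    · intro q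
      obtain ⟨y, rfl⟩ := QuotientGroup.mk_surjective q
      have hy : b0 * (y : G) ∉ H := fun hh => hb0H ((H.mul_mem_cancel_right y.2).1 hh)
      obtain ⟨b, hb, -, hbc⟩ := h.exists_mem_coset hy
      have hmem : b0 * b ∈ H := by
        have h1 := H.mul_mem y.2 (h.centralizer_le hbc)
        have he : (y : G) * ((b0 * (y : G))⁻¹ * b) = b0 * b := by
          rw [mul_inv_rev, hbi]; group
        rwa [he] at h1
      refine ⟨⟨b, hb, hmem⟩, ?_⟩
      show ((⟨b0 * b, hmem⟩ : H) : ↥H ⧸ C.subgroupOf H) = _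
      rw [eq_comm, QuotientGroup.eq, Subgroup.mem_subgroupOf]
      simpa [hbi, mul_assoc] using hbc
  have hcard : Nat.card T = C.relIndex H := Nat.card_eq_of_bijective φ hφ
  rw [← hcard]
  let σ : T → T := fun b => ⟨b0 * b.1 * b0⁻¹, b.2.1.trans (isConj_iff.2 ⟨b0, rfl⟩), by
    rw [hbi, ← mul_assoc, ← mul_assoc, hb2, one_mul]
    have h1 := H.inv_mem b.2.2
    rwa [mul_inv_rev, hbi, inv_eq_of_mul_eq_one_right (h.sq_one b.2.1)] at h1⟩
  have hσ : Function.Involutive σ := fun b => Subtype.ext (by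
    show b0 * (b0 * b.1 * b0⁻¹) * b0⁻¹ = b.1
    rw [hbi, ← mul_assoc, ← mul_assoc, hb2, one_mul, mul_assoc, hb2, mul_one])
  let t0 : T := ⟨b0, hb0, by rw [hb2]; exact H.one_mem⟩
  have hfix : ∀ b : T, σ b = b ↔ b = t0 := by
    intro b
    constructor
    · intro hb
      have hcm : b0 * b.1 = b.1 * b0 := by
        have h1 : b0 * b.1 * b0⁻¹ = b.1 := congrArg Subtype.val hb
        calc b0 * b.1 = b0 * b.1 * b0⁻¹ * b0 := by group
          _ = b.1 * b0 := by rw [h1]
      by_contra hne
      have hne' : b0 * b.1 ≠ 1 := fun h1 => hne (Subtype.ext (by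
        rw [eq_comm] at h1
        calc b.1 = b0 * (b0 * b.1) := by rw [← mul_assoc, hb2, one_mul]
          _ = b0 := by rw [← h1, mul_one]))
      refine h.noPair b0 hb0 hb0H _ b.2.2 ?_ ?_ ?_
      · rw [orderOf_eq_prime_iff]
        refine ⟨?_, hne'⟩
        rw [sq]
        calc b0 * b.1 * (b0 * b.1) = b0 * (b.1 * b0) * b.1 := by group
          _ = b0 * b0 * (b.1 * b.1) := by rw [← hcm]; group
          _ = 1 := by rw [hb2, h.sq_one b.2.1, one_mul]
      · show b0 * b.1 * b0 = b0 * (b0 * b.1)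
        rw [mul_assoc, hcm]
      · rw [← mul_assoc, hb2, one_mul]; exact b.2.1
    · rintro rfl
      exact Subtype.ext (by show b0 * b0 * b0⁻¹ = b0; group)
  exact odd_card_of_involutive σ hσ t0 hfix

end IsolatedPoint

end Cfsg.Agent.H60
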