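import Mathlib
import Cfsg.Agent.H23.QuaternionAut

/-! Groups of order 48 with a self-centralising normal quaternion subgroup and an involution outside it. -/

set_option autoImplicit false

namespace Cfsg.Agent.H60.Octa

open Subgroup QuaternionGroup

abbrev Q8 := QuaternionGroup 2

/-- Generating pairs of `Q₈`. -/
abbrev GenPair := {uv : Q8 × Q8 // uv.1 * uv.1 ≠ 1 ∧ uv.2 * uv.2 ≠ 1 ∧ uv.2 ≠ uv.1 ∧ uv.2 * uv.1 ≠ 1}

theorem card_genPair : Fintype.card GenPair = 24 := by decide +kernel

theorem gen_facts : (a 1 : Q8) * a 1 ≠ 1 ∧ (xa 0 : Q8) * xa 0 ≠ 1 ∧ (xa 0 : Q8) ≠ a 1 ∧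
    (xa 0 : Q8) * a 1 ≠ 1 := by decide +kernel

/-- `Q₈` has at most 24 automorphisms. -/
theorem card_mulAut_le : Finite (MulAut Q8) ∧ Nat.card (MulAut Q8) ≤ 24 := by
  obtain ⟨g1, g2, g3, g4⟩ := gen_facts
  let f : MulAut Q8 → GenPair := fun α => ⟨(α (a 1), α (xa 0)),
    fun h => g1 (α.injective (by rw [map_mul, map_one]; exact h)),
    fun h => g2 (α.injective (by rw [map_mul, map_one]; exact h)),
    fun h => g3 (α.injective h),
    fun h => g4 (α.injective (by rw [map_mul, map_one]; exact h))⟩
  have hf : Function.Injective f := by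
    intro α β h
    have h1 := congrArg (fun z : GenPair => z.1.1) h
    have h2 := congrArg (fun z : GenPair => z.1.2) h
    exact MulEquiv.ext fun x => by
      rw [H23.q8Map_eq α, H23.q8Map_eq β]
      exact congrArg₂ (fun u v => H23.q8Map u v x) h1 h2
  have hfin := Finite.of_injective f hf
  refine ⟨hfin, ?_⟩
  have := Nat.card_le_card_of_injective f hf
  rwa [Nat.card_eq_fintype_card (α := GenPair), card_genPair] at this

/-- The recognition data. -/
structure Data (Q : Type*) [Group Q] (e : Q8 →* Q) : Prop where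
  inj : Function.Injective e
  normal : e.range.Normal
  card : Nat.card Q = 48
  cent : centralizer (e.range : Set Q) ≤ e.range
  outside : ∃ t x : Q, t ∉ e.range ∧ t * t = 1 ∧ t * (x * t * x⁻¹) ∉ e.range

/-- Conjugation on the quaternion subgroup, transported to `Q₈`. -/
noncomputable def psi {Q : Type*} [Group Q] {e : Q8 →* Q} (D : Data Q e) : Q →* MulAut Q8 :=
  haveI := D.normal
  ((MulAut.congr (MonoidHom.ofInjective D.inj).symm).toMonoidHom).comp MulAut.conjNormal

theorem psi_spec {Q : Type*} [Group Q] {e : Q8 →* Q} (D : Data Q e) (g : Q) (r : Q8) :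
    e (psi D g r) = g * e r * g⁻¹ := by
  haveI := D.normal
  exact MonoidHom.apply_ofInjective_symm D.inj (MulAut.conjNormal g (MonoidHom.ofInjective D.inj r))

theorem psi_eq_one {Q : Type*} [Group Q] {e : Q8 →* Q} (D : Data Q e) {g : Q} :
    psi D g = 1 ↔ g ∈ centralizer (e.range : Set Q) := by
  constructor
  · intro h
    rw [mem_centralizer_iff]
    rintro _ ⟨r, rfl⟩
    have := psi_spec D g r
    rw [h, MulAut.one_apply] at this
    exact eq_mul_inv_iff_mul_eq.1 this
  · intro h
    refine MulEquiv.ext fun r => D.inj ?_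
    rw [psi_spec, MulAut.one_apply, ← mem_centralizer_iff.1 h (e r) ⟨r, rfl⟩, mul_inv_cancel_right]

theorem a2_sq : (a 2 : Q8) * a 2 = 1 := by decide +kernel

theorem a2_ne : (a 2 : Q8) ≠ 1 := by decide +kernel

theorem key_a2 : ∀ r : Q8, a 2 * r = r * a 2 := by decide +kernel

theorem center_q8 : ∀ x : Q8, (∀ y : Q8, x * y = y * x) → x = 1 ∨ x = a 2 := by decide +kernel

theorem card_range {Q : Type*} [Group Q] {e : Q8 →* Q} (D : Data Q e) : Nat.card e.range = 8 := by
  rw [← Nat.card_congr (MonoidHom.ofInjective D.inj).toEquiv, Nat.card_eq_fintype_card,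
    QuaternionGroup.card]

theorem ker_psi {Q : Type*} [Group Q] {e : Q8 →* Q} (D : Data Q e) {g : Q} (h : psi D g = 1) :
    g = 1 ∨ g = e (a 2) := by
  have hg := (psi_eq_one D).1 h
  obtain ⟨r, rfl⟩ := D.cent hg
  rcases center_q8 r (fun y => D.inj (by
    rw [map_mul, map_mul]; exact (mem_centralizer_iff.1 hg (e y) ⟨y, rfl⟩).symm)) with rfl | rfl
  · left; exact map_one e
  · right; rfl

theorem card_psi_range {Q : Type*} [Group Q] [Finite Q] {e : Q8 →* Q} (D : Data Q e) :
    Nat.card (psi D).range = 24 ∧ Nat.card (MulAut Q8) = 24 ∧ Function.Surjective (psi D) := by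
  classical
  haveI := card_mulAut_le.1
  have hk : Nat.card (psi D).ker ≤ 2 := by
    have hsub : ((psi D).ker : Set Q) ⊆ ({1, e (a 2)} : Finset Q) := fun g hg => by
      simpa using ker_psi D hg
    rw [← SetLike.coe_sort_coe, Nat.card_coe_set_eq]
    refine (Set.ncard_le_ncard hsub (Finset.finite_toSet _)).trans ?_
    rw [Set.ncard_coe_finset]
    exact Finset.card_le_two
  have h := (psi D).ker.index_mul_card
  rw [Subgroup.index_ker, D.card] at h
  have hle := Subgroup.card_le_card_group (psi D).range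
  have hA := card_mulAut_le.2
  have hr : Nat.card (psi D).range = 24 := by nlinarith
  refine ⟨hr, by omega, ?_⟩
  rw [← MonoidHom.range_eq_top]
  exact Subgroup.eq_top_of_le_card _ (by omega)

/-- A complement isomorphic to `S₃`. -/
theorem exists_complement {Q : Type*} [Group Q] [Finite Q] {e : Q8 →* Q} (D : Data Q e) :
    ∃ U : Subgroup Q, e.range.IsComplement' U ∧
      ∃ y : Q, orderOf y = 3 ∧ zpowers y ≤ U ∧ U ≤ normalizer (zpowers y : Set Q) := by
  classical
  haveI := D.normal
  obtain ⟨t, x, htR, ht2, hw⟩ := D.outside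
  set t' := x * t * x⁻¹ with ht'
  have ht'2 : t' * t' = 1 := by
    rw [ht', show x * t * x⁻¹ * (x * t * x⁻¹) = x * (t * t) * x⁻¹ by group, ht2, mul_one, mul_inv_cancel]
  have ht'R : t' ∉ e.range := fun h => htR (by
    have := D.normal.conj_mem _ h x⁻¹
    simpa [ht', mul_assoc] using this)
  set w := t * t' with hw'
  have ht1 : t⁻¹ = t := inv_eq_of_mul_eq_one_right ht2
  have hinv : t * w * t⁻¹ = w⁻¹ := by
    rw [hw', mul_inv_rev, ht1, inv_eq_of_mul_eq_one_right ht'2, ← mul_assoc, ht2, one_mul]
  have h3 : 3 ∣ orderOf w := by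
    by_contra h3
    have hd : orderOf w ∣ 3 * 16 := by
      have h := orderOf_dvd_natCard w; rwa [D.card] at h
    have hd16 : orderOf w ∣ 16 :=
      (Nat.Coprime.dvd_of_dvd_mul_left ((Nat.prime_three.coprime_iff_not_dvd.2 h3).symm) hd)
    obtain ⟨i, -, hi⟩ := (Nat.dvd_prime_pow Nat.prime_two (m := 4)).1 hd16
    haveI : Fact (Nat.Prime 2) := ⟨Nat.prime_two⟩
    have hW : IsPGroup 2 (zpowers w) := IsPGroup.of_card (n := i) (by rw [Nat.card_zpowers, hi])
    have hT : IsPGroup 2 (zpowers t) :=
      IsPGroup.of_card_dvd_pow (n := 1) (by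
        rw [Nat.card_zpowers, pow_one]
        exact orderOf_dvd_of_pow_eq_one (by rw [pow_two, ht2]))
    have htn : zpowers t ≤ normalizer (zpowers w : Set Q) := by
      rw [zpowers_le, Subgroup.mem_normalizer_iff]
      intro z
      constructor
      · rintro ⟨k, rfl⟩
        exact ⟨-k, by rw [← conj_zpow, hinv, inv_zpow']⟩
      · rintro ⟨k, hk⟩
        refine ⟨-k, ?_⟩
        have : z = t⁻¹ * (w ^ k) * t := by
          have hk' : w ^ k = t * z * t⁻¹ := hk
          rw [hk']; group
        rw [this, ht1]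
        calc w ^ (-k) = (t * w * t⁻¹) ^ k := by rw [hinv, inv_zpow']
          _ = t * w ^ k * t := by rw [conj_zpow, ht1]
    have hWT : IsPGroup 2 ↥(zpowers w ⊔ zpowers t) :=
      IsPGroup.to_sup_of_normal_left' hW hT htn
    have hR : IsPGroup 2 ↥e.range := IsPGroup.of_card (n := 3) (card_range D)
    have hP : IsPGroup 2 ↥(e.range ⊔ (zpowers w ⊔ zpowers t)) := IsPGroup.to_sup_of_normal_left hR hWT
    obtain ⟨m, hm⟩ := hP.exists_card_eq
    have hm4 : m ≤ 4 := by
      have h1 : 2 ^ m ∣ 48 := hm ▸ D.card ▸ Subgroup.card_subgroup_dvd_card _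
      by_contra h5
      have : 2 ^ 5 ∣ 48 := (pow_dvd_pow 2 (by omega)).trans h1
      norm_num at this
    have hRT : Nat.card ↥(e.range ⊔ zpowers t) = 16 ∧ e.range ⊔ zpowers t = e.range ⊔ (zpowers w ⊔ zpowers t) := by
      have hle : e.range ⊔ zpowers t ≤ e.range ⊔ (zpowers w ⊔ zpowers t) := sup_le_sup_left le_sup_right _
      have hlt : e.range < e.range ⊔ zpowers t :=
        lt_of_le_of_ne le_sup_left fun h => htR (h ▸ mem_sup_right (mem_zpowers t))
      obtain ⟨c, hc⟩ := Subgroup.card_dvd_of_le hlt.le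
      rw [card_range D] at hc
      have hc2 : 2 ≤ c := by
        by_contra hc2
        have := Nat.card_pos (α := ↥(e.range ⊔ zpowers t))
        have hc1 : c = 1 := by
          rcases Nat.eq_zero_or_pos c with rfl | h
          · omega
          · omega
        exact hlt.ne (Subgroup.eq_of_le_of_card_ge hlt.le (by rw [hc, hc1, card_range D]))
      have h16 : Nat.card ↥(e.range ⊔ (zpowers w ⊔ zpowers t)) ≤ 16 := by
        rw [hm]
        exact (Nat.pow_le_pow_right (by norm_num) hm4).trans (by norm_num)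
      have h1 := Subgroup.card_le_of_le hle
      exact ⟨by omega, Subgroup.eq_of_le_of_card_ge hle (by omega)⟩
    have hwP : w ∈ e.range ⊔ zpowers t := by
      rw [hRT.2]; exact mem_sup_right (mem_sup_left (mem_zpowers w))
    obtain ⟨r, hr, s, hs, hrs⟩ := Subgroup.mem_sup_of_normal_left.1 hwP
    obtain ⟨k, rfl⟩ := hs
    rcases Int.even_or_odd' k with ⟨j, rfl | rfl⟩
    · refine hw ?_
      show w ∈ e.range
      have h1 : t ^ (2 * j) = 1 := by rw [zpow_mul, zpow_two, ht2, one_zpow]
      simp only [h1, mul_one] at hrs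
      exact hrs ▸ hr
    · refine ht'R ?_
      have h1 : t ^ (2 * j + 1) = t := by rw [zpow_add, zpow_mul, zpow_two, ht2, one_zpow, one_mul, zpow_one]
      simp only [h1] at hrs
      have : t' = t⁻¹ * r * t := by
        rw [show t' = t⁻¹ * w by rw [hw', inv_mul_cancel_left], ← hrs, mul_assoc]
      rw [this]
      simpa using D.normal.conj_mem r hr t⁻¹
  obtain ⟨c, hc⟩ := h3
  have hwpos := orderOf_pos w
  have hy : orderOf (w ^ c) = 3 := by
    rw [orderOf_pow' _ (by rintro rfl; rw [mul_zero] at hc; omega)]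
    rw [hc, Nat.gcd_mul_left_left, Nat.mul_div_cancel _ (by
      rcases Nat.eq_zero_or_pos c with rfl | h
      · rw [mul_zero] at hc; omega
      · exact h)]
  set y := w ^ c with hyd
  have hty : t * y * t⁻¹ = y⁻¹ := by rw [hyd, ← conj_pow, hinv, inv_pow]
  have hyn : ∀ z ∈ zpowers y ⊔ zpowers t, z ∈ normalizer (zpowers y : Set Q) := by
    refine fun z hz => (sup_le (le_normalizer (H := zpowers y)) ?_ : _ ≤ normalizer _) hz
    rw [zpowers_le, Subgroup.mem_normalizer_iff]
    intro z
    constructor
    · rintro ⟨k, rfl⟩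
      exact ⟨-k, by rw [← conj_zpow, hty, inv_zpow']⟩
    · rintro ⟨k, hk⟩
      refine ⟨-k, ?_⟩
      have : z = t⁻¹ * (y ^ k) * t := by
        have hk' : y ^ k = t * z * t⁻¹ := hk
        rw [hk']; group
      rw [this, ht1]
      calc y ^ (-k) = (t * y * t⁻¹) ^ k := by rw [hty, inv_zpow']
        _ = t * y ^ k * t := by rw [conj_zpow, ht1]
  set U := zpowers y ⊔ zpowers t with hU
  have ht' : t ∉ zpowers y := fun h => htR (by
    have h2 : orderOf t ∣ 3 := hy ▸ orderOf_dvd_of_mem_zpowers h
    have h2' : orderOf t ∣ 2 := orderOf_dvd_of_pow_eq_one (by rw [pow_two, ht2])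
    have : orderOf t = 1 := Nat.eq_one_of_dvd_one (by simpa using Nat.dvd_gcd h2 h2')
    rw [orderOf_eq_one_iff.1 this]; exact one_mem _)
  have hyR : y ∉ e.range := fun h => by
    obtain ⟨r, hr⟩ := h
    have h8 : orderOf r ∣ 8 := by
      have := orderOf_dvd_card (x := r); rwa [QuaternionGroup.card] at this
    rw [← orderOf_injective e D.inj, hr, hy] at h8
    norm_num at h8
  -- every element of `U` is `y^i` or `y^i t`
  have hform : ∀ u ∈ U, ∃ i : ℤ, u = y ^ i ∨ u = y ^ i * t := by
    intro u hu
    haveI : ((zpowers y).subgroupOf U).Normal :=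
      Subgroup.normal_subgroupOf_iff_le_normalizer le_sup_left |>.2 hyn
    have hsup : (⟨u, hu⟩ : U) ∈ (zpowers y).subgroupOf U ⊔ (zpowers t).subgroupOf U := by
      rw [← Subgroup.subgroupOf_sup le_sup_left le_sup_right]; exact hu
    obtain ⟨p, hp, s, hs, hps⟩ := Subgroup.mem_sup_of_normal_left.1 hsup
    obtain ⟨i, hi⟩ : (p : Q) ∈ zpowers y := hp
    obtain ⟨k, hk⟩ : (s : Q) ∈ zpowers t := hs
    refine ⟨i, ?_⟩
    have he : u = y ^ i * t ^ k := by
      rw [show (y ^ i) = (p : Q) from hi, show t ^ k = (s : Q) from hk, ← Subgroup.coe_mul, hps]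
    rcases Int.even_or_odd' k with ⟨j, rfl | rfl⟩
    · left; rw [he, zpow_mul, zpow_two, ht2, one_zpow, mul_one]
    · right; rw [he, zpow_add, zpow_mul, zpow_two, ht2, one_zpow, one_mul, zpow_one]
  have hdisj : Disjoint e.range U := by
    rw [disjoint_iff_inf_le]
    intro u hu
    obtain ⟨hue, huU⟩ := mem_inf.1 hu
    obtain ⟨i, rfl | rfl⟩ := hform u huU
    · have h8 : orderOf (y ^ i) ∣ 8 := by
        obtain ⟨r, hr⟩ := hue
        rw [← hr, orderOf_injective e D.inj]
        have := orderOf_dvd_card (x := r); rwa [QuaternionGroup.card] at this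
      have h3' : orderOf (y ^ i) ∣ 3 := hy ▸ orderOf_dvd_of_mem_zpowers ⟨i, rfl⟩
      rw [mem_bot]
      exact orderOf_eq_one_iff.1 (Nat.eq_one_of_dvd_one (by simpa using Nat.dvd_gcd h8 h3'))
    · exfalso
      refine htR ?_
      have hcm : t * y ^ (2 * i) = y ^ (-(2 * i)) * t := by
        rw [← mul_inv_eq_iff_eq_mul, ← conj_zpow, hty, inv_zpow']
      have h1 := D.normal.conj_mem _ hue (y ^ i)
      have h3 : y ^ (3 * i) = 1 := by
        rw [zpow_mul, show y ^ (3 : ℤ) = 1 by
          rw [show (3 : ℤ) = ((3 : ℕ) : ℤ) from rfl, zpow_natCast, ← hy, pow_orderOf_eq_one], one_zpow]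
      have hti : t * (y ^ i)⁻¹ = y ^ i * t := by
        rw [← mul_inv_eq_iff_eq_mul, ← zpow_neg, ← conj_zpow, hty, inv_zpow', neg_neg]
      rwa [show y ^ i * (y ^ i * t) * (y ^ i)⁻¹ = y ^ (3 * i) * t by
        rw [mul_assoc, mul_assoc, hti, ← mul_assoc, ← mul_assoc, ← zpow_add, ← zpow_add,
          show i + i + i = 3 * i by ring], h3, one_mul] at h1
  have hUc : 6 ∣ Nat.card U := by
    have h3 : 3 ∣ Nat.card U := by
      rw [← hy, ← Nat.card_zpowers]; exact Subgroup.card_dvd_of_le le_sup_left
    have h2 : 2 ∣ Nat.card U := by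
      have : orderOf t = 2 := orderOf_eq_prime (by rw [pow_two, ht2]) fun h => htR (h ▸ one_mem _)
      rw [← this, ← Nat.card_zpowers]; exact Subgroup.card_dvd_of_le le_sup_right
    exact Nat.Coprime.mul_dvd_of_dvd_of_dvd (by norm_num) h2 h3
  refine ⟨U, ?_, y, hy, le_sup_left, hyn⟩
  refine Subgroup.isComplement'_of_card_mul_and_disjoint ?_ hdisj
  have hle : Nat.card e.range * Nat.card U ≤ Nat.card Q := by
    rw [← Nat.card_prod]
    exact Nat.card_le_card_of_injective _ (Subgroup.mul_injective_of_disjoint hdisj)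
  have h6 := Nat.le_of_dvd Nat.card_pos hUc
  rw [D.card, card_range D] at hle ⊢
  omega

/-- Two such groups are isomorphic. -/
theorem nonempty_equiv {Q Q' : Type*} [Group Q] [Finite Q] [Group Q'] [Finite Q'] {e : Q8 →* Q}
    {e' : Q8 →* Q'} (D : Data Q e) (D' : Data Q' e') : Nonempty (Q ≃* Q') := by
  classical
  haveI := card_mulAut_le.1
  haveI := Fact.mk Nat.prime_three
  haveI := D.normal
  haveI := D'.normal
  obtain ⟨U, hU, y, hy, hyU, hUy⟩ := exists_complement D
  obtain ⟨U', hU', y', hy', hyU', hUy'⟩ := exists_complement D'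
  have hA := (card_psi_range D).2.1
  have injU : ∀ {R : Type _} [Group R] {f : Q8 →* R} (E : Data R f) {W : Subgroup R},
      f.range.IsComplement' W → ∀ u ∈ W, psi E u = 1 → u = 1 := by
    intro R _ f E W hW u hu h
    have : u ∈ f.range ⊓ W := mem_inf.2 ⟨E.cent ((psi_eq_one E).1 h), hu⟩
    rwa [hW.disjoint.eq_bot] at this
  have injU' : ∀ u ∈ U', psi D' u = 1 → u = 1 := by
    intro u hu h
    have : u ∈ e'.range ⊓ U' := mem_inf.2 ⟨D'.cent ((psi_eq_one D').1 h), hu⟩
    rwa [hU'.disjoint.eq_bot] at this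
  let p : U →* MulAut Q8 := (psi D).comp U.subtype
  let p' : U' →* MulAut Q8 := (psi D').comp U'.subtype
  have hp : Function.Injective p := (injective_iff_map_eq_one p).2 fun u h =>
    Subtype.ext (injU D hU u u.2 h)
  have hp' : Function.Injective p' := (injective_iff_map_eq_one p').2 fun u h =>
    Subtype.ext (injU' u u.2 h)
  -- Sylow 3-subgroups of the automorphism group
  have hfac : (Nat.card (MulAut Q8)).factorization 3 = 1 := by
    rw [hA, show (24 : ℕ) = 3 * 8 from rfl, Nat.factorization_mul (by norm_num) (by norm_num),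
      Finsupp.add_apply, Nat.prime_three.factorization_self,
      Nat.factorization_eq_zero_of_not_dvd (by norm_num)]
  have hsyl : ∀ a : MulAut Q8, orderOf a = 3 → ∃ P : Sylow 3 (MulAut Q8), (P : Subgroup _) = zpowers a :=
    fun a ha => ⟨Sylow.ofCard (zpowers a) (by rw [Nat.card_zpowers, ha, hfac, pow_one]), rfl⟩
  have hay : orderOf (psi D y) = 3 := by
    have := orderOf_injective p hp ⟨y, hyU (mem_zpowers y)⟩
    rw [← Subgroup.orderOf_coe] at this
    exact this.trans hy
  have hay' : orderOf (psi D' y') = 3 := by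
    have := orderOf_injective p' hp' ⟨y', hyU' (mem_zpowers y')⟩
    rw [← Subgroup.orderOf_coe] at this
    exact this.trans hy'
  obtain ⟨P, hP⟩ := hsyl _ hay
  obtain ⟨P', hP'⟩ := hsyl _ hay'
  obtain ⟨α, hα⟩ := MulAction.exists_smul_eq (MulAut Q8) P P'
  have hαs : (zpowers (psi D y)).map (MulAut.conj α).toMonoidHom = zpowers (psi D' y') := by
    rw [← hP, ← hP', ← hα]; rfl
  set M := normalizer (zpowers (psi D' y') : Set (MulAut Q8))
  have hp'M : p'.range = M := by
    refine Subgroup.eq_of_le_of_card_ge ?_ ?_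
    · rintro _ ⟨u, rfl⟩
      have h := Subgroup.le_normalizer_map (H := zpowers y') (psi D') (mem_map_of_mem _ (hUy' u.2))
      rwa [MonoidHom.map_zpowers] at h
    · -- index of the normalizer
      have hn : Nat.card (Sylow 3 (MulAut Q8)) * Nat.card M = 24 := by
        have : Nat.card (Sylow 3 (MulAut Q8)) = M.index := by
          rw [P'.card_eq_index_normalizer]
          exact congrArg (fun H : Subgroup (MulAut Q8) => (normalizer (H : Set (MulAut Q8))).index) hP'
        rw [this, M.index_mul_card, hA]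
      have hmod := card_sylow_modEq_one 3 (MulAut Q8)
      have hdvd : Nat.card (Sylow 3 (MulAut Q8)) ∣ 8 := by
        refine dvd_trans P'.card_dvd_index (dvd_of_eq ?_)
        have h := (P' : Subgroup (MulAut Q8)).index_mul_card
        rw [hA, hP', Nat.card_zpowers, hay'] at h
        rw [hP']; omega
      have hne : Nat.card (Sylow 3 (MulAut Q8)) ≠ 1 := by
        intro h1
        haveI : Subsingleton (Sylow 3 (MulAut Q8)) := (Nat.card_eq_one_iff_unique.1 h1).1
        haveI hn3 : (P' : Subgroup (MulAut Q8)).Normal := Sylow.normal_of_subsingleton P'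
        -- inner automorphisms
        let V : Subgroup (MulAut Q8) := e'.range.map (psi D')
        haveI : V.Normal := Subgroup.Normal.map inferInstance _ (card_psi_range D').2.2
        have hdisj : Disjoint V (P' : Subgroup (MulAut Q8)) := by
          rw [disjoint_iff_inf_le]
          intro v hv
          obtain ⟨⟨g, hg, rfl⟩, hv2⟩ := mem_inf.1 hv
          obtain ⟨r, rfl⟩ := hg
          have h8 : orderOf (psi D' (e' r)) ∣ 8 := by
            refine (orderOf_map_dvd _ _).trans ((orderOf_map_dvd _ _).trans ?_)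
            have := orderOf_dvd_card (x := r); rwa [QuaternionGroup.card] at this
          have h3' : orderOf (psi D' (e' r)) ∣ 3 := by
            rw [hP'] at hv2
            exact hay' ▸ orderOf_dvd_of_mem_zpowers hv2
          rw [mem_bot]
          exact orderOf_eq_one_iff.1 (Nat.eq_one_of_dvd_one (by simpa using Nat.dvd_gcd h8 h3'))
        have hcomm : ∀ r, Commute (psi D' (e' r)) (psi D' y') := fun r =>
          Subgroup.commute_of_normal_of_disjoint V P' inferInstance hn3 hdisj _ _
            ⟨_, ⟨r, rfl⟩, rfl⟩ (hP' ▸ mem_zpowers _)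
        -- so `y'` stabilises the chain and centralises
        have hstab : ∀ r, psi D' y' r = r ∨ psi D' y' r = r * a 2 := by
          intro r
          have h : psi D' (y' * e' r * y'⁻¹ * (e' r)⁻¹) = 1 := by
            rw [map_mul, map_mul, map_mul, map_inv, map_inv, (hcomm r).symm.eq]
            group
          rw [← psi_spec D', ← map_inv, ← map_mul] at h
          rcases ker_psi D' h with h' | h'
          · left
            rw [← map_one e'] at h'
            exact mul_inv_eq_one.1 (D'.inj h')
          · right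
            rw [mul_inv_eq_iff_eq_mul.1 (D'.inj h'), key_a2]
        have h2 : (psi D' y') ^ 2 = 1 := MulEquiv.ext fun r => by
          rw [pow_two, MulAut.mul_apply, MulAut.one_apply]
          rcases hstab r with h | h
          · rw [h, h]
          · rcases hstab (a 2) with h' | h'
            · rw [h, map_mul, h, h', mul_assoc, a2_sq, mul_one]
            · rw [a2_sq] at h'
              exact absurd ((psi D' y').injective (h'.trans (map_one _).symm)) a2_ne
        have := orderOf_dvd_of_pow_eq_one h2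
        rw [hay'] at this
        norm_num at this
      have h4 : Nat.card (Sylow 3 (MulAut Q8)) = 4 := by
        have h8 := Nat.le_of_dvd (by norm_num) hdvd
        unfold Nat.ModEq at hmod
        interval_cases hcq : Nat.card (Sylow 3 (MulAut Q8)) <;> omega
      rw [h4] at hn
      have h6 : Nat.card p'.range = 6 := by
        rw [← Nat.card_congr (MonoidHom.ofInjective hp').toEquiv]
        have := hU'.card_mul
        rw [card_range D', D'.card] at this
        omega
      omega
  let q : U →* MulAut Q8 := (MulAut.conj α).toMonoidHom.comp p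
  have hq : Function.Injective q := (MulAut.conj α).injective.comp hp
  have hqr : q.range = p'.range := by
    refine Subgroup.eq_of_le_of_card_ge ?_ ?_
    · rw [hp'M]
      rintro _ ⟨u, rfl⟩
      have h := Subgroup.le_normalizer_map (H := zpowers y) ((MulAut.conj α).toMonoidHom.comp (psi D))
        (mem_map_of_mem _ (hUy u.2))
      rwa [MonoidHom.map_zpowers, show zpowers (((MulAut.conj α).toMonoidHom.comp (psi D)) y) =
        zpowers (psi D' y') by rw [← hαs, MonoidHom.map_zpowers]; rfl] at h
    · rw [← Nat.card_congr (MonoidHom.ofInjective hp').toEquiv,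
        ← Nat.card_congr (MonoidHom.ofInjective hq).toEquiv]
      have h1 := hU.card_mul
      have h2 := hU'.card_mul
      rw [card_range D, D.card] at h1
      rw [card_range D', D'.card] at h2
      omega
  let f : U ≃* U' := ((MonoidHom.ofInjective hq).trans (MulEquiv.subgroupCongr hqr)).trans
    (MonoidHom.ofInjective hp').symm
  have hf : ∀ u : U, psi D' (f u : Q') = α * psi D (u : Q) * α⁻¹ := fun u =>
    MonoidHom.apply_ofInjective_symm hp' (MulEquiv.subgroupCongr hqr (MonoidHom.ofInjective hq u))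
  let fn : e.range ≃* e'.range :=
    ((MonoidHom.ofInjective D.inj).symm.trans α).trans (MonoidHom.ofInjective D'.inj)
  refine ⟨(SemidirectProduct.mulEquivSubgroup hU).symm.trans
    ((SemidirectProduct.congr fn f ?_).trans (SemidirectProduct.mulEquivSubgroup hU'))⟩
  intro u
  refine MulEquiv.ext fun r => ?_
  obtain ⟨r, rfl⟩ := (MonoidHom.ofInjective D.inj).surjective r
  refine Subtype.ext ?_
  show e' (α ((MonoidHom.ofInjective D.inj).symm _)) = (f u : Q') * e' (α ((MonoidHom.ofInjective D.inj).symm _)) * (f u : Q')⁻¹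
  rw [← psi_spec D', hf, MulEquiv.symm_apply_apply]
  congr 1
  show α _ = α (psi D u (α.symm (α r)))
  rw [MulEquiv.symm_apply_apply]
  congr 1

end Cfsg.Agent.H60.Octa
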