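import Mathlib
import Cfsg.Prelude.Def_CaseTheorems
import Cfsg.Agent.H60.OctahedralQ8
import Cfsg.Agent.H19.Cores
import Cfsg.Agent.H40.PCore
import Cfsg.Agent.H77.SolvableCore
import Cfsg.Agent.H21.UniqueSubgroup
import Cfsg.Agent.H91.Sims.Recognition

/-! Solvable groups in which two distinct Sylow 2-subgroups share no four-group. -/

set_option autoImplicit false

namespace Cfsg.Agent.H60.RankOneInter

open Subgroup QuaternionGroup Cfsg.Agent.H60.Octa

/-- `Q₈` in `GL(2,3)`. -/
def glHom : Q8 →* GL (Fin 2) (ZMod 3) :=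
  (Matrix.SpecialLinearGroup.toGL).comp H23.q8Hom

theorem glHom_val (r : Q8) : (glHom r : Matrix (Fin 2) (Fin 2) (ZMod 3)) = H23.q8ToSL r := rfl

theorem gl_conj : ∀ a b c d : ZMod 3, a * d - b * c ≠ 0 → ∀ r : Q8, ∃ s : Q8,
    !![a, b; c, d] * H23.q8ToSL r = H23.q8ToSL s * !![a, b; c, d] := by decide +kernel

theorem gl_cent : ∀ a b c d : ZMod 3, a * d - b * c ≠ 0 →
    (∀ r : Q8, H23.q8ToSL r * !![a, b; c, d] = !![a, b; c, d] * H23.q8ToSL r) →
    ∃ s : Q8, H23.q8ToSL s = !![a, b; c, d] := by decide +kernel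

theorem gl_outside : (∀ r : Q8, H23.q8ToSL r ≠ !![1, 0; 0, -1]) ∧
    (∀ r : Q8, H23.q8ToSL r ≠
      (!![1, 0; 0, -1] : Matrix (Fin 2) (Fin 2) (ZMod 3)) *
        (!![1, 1; 0, 1] * !![1, 0; 0, -1] * !![1, -1; 0, 1])) := by decide +kernel

theorem gl_eta (g : GL (Fin 2) (ZMod 3)) : ∃ a b c d : ZMod 3, a * d - b * c ≠ 0 ∧
    (g : Matrix (Fin 2) (Fin 2) (ZMod 3)) = !![a, b; c, d] := by
  refine ⟨_, _, _, _, ?_, Matrix.eta_fin_two _⟩
  rw [← Matrix.det_fin_two]
  exact (Matrix.GeneralLinearGroup.det g).ne_zero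

theorem gl_data : Data (GL (Fin 2) (ZMod 3)) glHom := by
  refine ⟨Matrix.SpecialLinearGroup.toGL_injective.comp H23.q8Hom_injective, ⟨?_⟩, ?_, ?_, ?_⟩
  · rintro _ ⟨r, rfl⟩ g
    obtain ⟨a, b, c, d, hdet, hg⟩ := gl_eta g
    obtain ⟨s, hs⟩ := gl_conj a b c d hdet r
    refine ⟨s, ?_⟩
    rw [eq_mul_inv_iff_mul_eq]
    apply Units.ext
    rw [Units.val_mul, Units.val_mul, glHom_val, glHom_val, hg, hs]
  · rw [Matrix.card_GL_field]
    norm_num [Fin.prod_univ_two, ZMod.card, Nat.card_eq_fintype_card]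
  · intro g hg
    obtain ⟨a, b, c, d, hdet, hgv⟩ := gl_eta g
    obtain ⟨s, hs⟩ := gl_cent a b c d hdet fun r => by
      have h := congrArg Units.val (mem_centralizer_iff.1 hg (glHom r) ⟨r, rfl⟩)
      rwa [Units.val_mul, Units.val_mul, glHom_val, hgv] at h
    exact ⟨s, Units.ext (by rw [glHom_val, hs, hgv])⟩
  · let t : GL (Fin 2) (ZMod 3) :=
      ⟨!![1, 0; 0, -1], !![1, 0; 0, -1], by decide +kernel, by decide +kernel⟩
    let x : GL (Fin 2) (ZMod 3) :=
      ⟨!![1, 1; 0, 1], !![1, -1; 0, 1], by decide +kernel, by decide +kernel⟩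
    refine ⟨t, x, ?_, Units.ext (by decide +kernel), ?_⟩
    · rintro ⟨r, hr⟩
      exact gl_outside.1 r (congrArg Units.val hr)
    · rintro ⟨r, hr⟩
      exact gl_outside.2 r (congrArg Units.val hr)

theorem q8_unique_involution : ∀ r : Q8, r * r = 1 → r = 1 ∨ r = a 2 := by decide +kernel

/-- Automorphisms of `Q₈` moving every element only inside its coset of the centre are inner. -/
theorem inner_pairs : ∀ u v : Q8, (∀ x y, H23.q8Map u v (x * y) = H23.q8Map u v x * H23.q8Map u v y) →
    (u = a 1 ∨ u = a 1 * a 2) → (v = xa 0 ∨ v = xa 0 * a 2) →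
    ∃ r : Q8, r * a 1 * r⁻¹ = u ∧ r * xa 0 * r⁻¹ = v := by decide +kernel

theorem inner_of_stab (f : Q8 → Q8) (hmul : ∀ x y, f (x * y) = f x * f y)
    (hst : ∀ x, f x = x ∨ f x = x * a 2) : ∃ r : Q8, ∀ x, f x = r * x * r⁻¹ := by
  let F : Q8 →* Q8 := MonoidHom.mk' f hmul
  have hform : ∀ x, f x = H23.q8Map (f (a 1)) (f (xa 0)) x := by
    intro x
    cases x with
    | a k =>
      show f (a k) = f (a 1) ^ k.val
      rw [show f (a 1) ^ k.val = F ((a 1 : Q8) ^ k.val) from (map_pow F _ _).symm, a_one_pow,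
        ZMod.natCast_zmod_val]
      rfl
    | xa k =>
      show f (xa k) = f (xa 0) * f (a 1) ^ k.val
      rw [show f (a 1) ^ k.val = F ((a 1 : Q8) ^ k.val) from (map_pow F _ _).symm, a_one_pow,
        ZMod.natCast_zmod_val, show F (a k) = f (a k) from rfl, ← hmul, xa_mul_a, zero_add]
  obtain ⟨r, h1, h2⟩ := inner_pairs (f (a 1)) (f (xa 0))
    (fun x y => by rw [← hform, ← hform, ← hform]; exact hmul x y) (hst _) (hst _)
  refine ⟨r, fun x => ?_⟩
  obtain ⟨k, rfl | rfl⟩ := H23.q8_decomp x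
  · show F _ = _
    rw [map_pow, show F (a 1) = f (a 1) from rfl, ← h1, conj_pow]
  · show F _ = _
    rw [map_mul, map_pow, show F (a 1) = f (a 1) from rfl, show F (xa 0) = f (xa 0) from rfl,
      ← h1, ← h2, conj_pow]
    group

variable {Q : Type*} [Group Q] [Finite Q]

theorem quotient_hyp {G : Type*} [Group G] [Finite G] (O : Subgroup G) [O.Normal]
    (hO : (Nat.card O).Coprime 2)
    (hI : ∀ S T : Sylow 2 G, S ≠ T → Cfsg.PRankLE 2 1 ↥((S : Subgroup G) ⊓ (T : Subgroup G)))
    (S T : Sylow 2 (G ⧸ O)) (hne : S ≠ T) (A : Subgroup (G ⧸ O)) (hA : IsMulCommutative A)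
    (hA2 : ∀ a ∈ A, a ^ 2 = 1) (hAS : A ≤ S) (hAT : A ≤ T) : Nat.card A ≤ 2 := by
  classical
  haveI : Fact (Nat.Prime 2) := ⟨Nat.prime_two⟩
  obtain ⟨S₀, hS₀⟩ := (Sylow.mapSurjective_surjective (f := QuotientGroup.mk' O)
    (QuotientGroup.mk'_surjective O) 2) S
  obtain ⟨T₀, hT₀⟩ := (Sylow.mapSurjective_surjective (f := QuotientGroup.mk' O)
    (QuotientGroup.mk'_surjective O) 2) T
  have hSimg : (S₀ : Subgroup G).map (QuotientGroup.mk' O) = S := by rw [← hS₀]; rfl
  have hTimg : (T₀ : Subgroup G).map (QuotientGroup.mk' O) = T := by rw [← hT₀]; rfl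
  set X := A.comap (QuotientGroup.mk' O) with hX
  have hOX : O ≤ X := fun o ho => by
    show (QuotientGroup.mk' O o) ∈ A
    rw [QuotientGroup.mk'_apply, (QuotientGroup.eq_one_iff o).2 ho]; exact one_mem A
  have key : ∀ R : Sylow 2 G, A ≤ (R : Subgroup G).map (QuotientGroup.mk' O) →
      ((R : Subgroup G) ⊓ X).map (QuotientGroup.mk' O) = A ∧
        ∀ z ∈ (R : Subgroup G) ⊓ X, QuotientGroup.mk' O z = 1 → z = 1 := by
    intro R hR
    refine ⟨le_antisymm ?_ ?_, ?_⟩
    · rintro _ ⟨z, hz, rfl⟩; exact hz.2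
    · intro a ha
      obtain ⟨z, hz, hza⟩ := hR ha
      exact ⟨z, ⟨hz, show QuotientGroup.mk' O z ∈ A by rw [hza]; exact ha⟩, hza⟩
    · intro z hz h1
      rw [QuotientGroup.mk'_apply, QuotientGroup.eq_one_iff] at h1
      obtain ⟨k, hk⟩ := R.2 ⟨z, hz.1⟩
      have hd1 : orderOf z ∣ 2 ^ k := orderOf_dvd_of_pow_eq_one (congrArg Subtype.val hk)
      have hd2 : orderOf z ∣ Nat.card O := (Subgroup.orderOf_coe (⟨z, h1⟩ : O)).symm ▸ orderOf_dvd_natCard (⟨z, h1⟩ : O)
      exact orderOf_eq_one_iff.1 (Nat.eq_one_of_dvd_coprimes (hO.symm.pow_left k) hd1 hd2)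
  obtain ⟨hSA, hSinj⟩ := key S₀ (by rw [hSimg]; exact hAS)
  obtain ⟨hTA, hTinj⟩ := key T₀ (by rw [hTimg]; exact hAT)
  set A₀ := (S₀ : Subgroup G) ⊓ X
  set B₀ := (T₀ : Subgroup G) ⊓ X
  -- both are Sylow subgroups of the preimage
  have hcardEq : ∀ R : Subgroup G, R.map (QuotientGroup.mk' O) = A →
      (∀ z ∈ R, QuotientGroup.mk' O z = 1 → z = 1) → Nat.card R = Nat.card A := by
    intro R h1 h2
    rw [← h1]
    refine Nat.card_congr (Equiv.ofBijective (fun z : R => (⟨_, z, z.2, rfl⟩ :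
      R.map (QuotientGroup.mk' O))) ⟨fun z w h => ?_, fun ⟨_, z, hz, e⟩ => ⟨⟨z, hz⟩, Subtype.ext e⟩⟩)
    have h' := congrArg Subtype.val h
    simp only at h'
    have := h2 _ (R.mul_mem (R.inv_mem z.2) w.2) (by rw [map_mul, map_inv, h', inv_mul_cancel])
    exact Subtype.ext (inv_mul_eq_one.1 this)
  have hA₀c := hcardEq A₀ hSA hSinj
  have hB₀c := hcardEq B₀ hTA hTinj
  have hXc : Nat.card X = Nat.card A * Nat.card O := by
    have := Subgroup.relIndex_comap (H := (⊥ : Subgroup (G ⧸ O))) (f := QuotientGroup.mk' O) X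
    rw [MonoidHom.comap_bot, QuotientGroup.ker_mk'] at this
    rw [hX, Subgroup.map_comap_eq_self_of_surjective (QuotientGroup.mk'_surjective O),
      Subgroup.relIndex_bot_left] at this
    rw [← this, ← hX]
    have h2 := Subgroup.relIndex_mul_relIndex (⊥ : Subgroup G) O X bot_le hOX
    rw [Subgroup.relIndex_bot_left, Subgroup.relIndex_bot_left] at h2
    rw [← h2, mul_comm]
  have hA₀2 : IsPGroup 2 A₀ := S₀.2.to_le inf_le_left
  obtain ⟨e, he⟩ := hA₀2.exists_card_eq
  have hfacX : (Nat.card X).factorization 2 = e := by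
    have hOz : (Nat.card O).factorization 2 = 0 := Nat.factorization_eq_zero_of_not_dvd
      (Nat.prime_two.coprime_iff_not_dvd.1 hO.symm)
    rw [hXc, ← hA₀c, he, Nat.factorization_mul (by positivity) Nat.card_pos.ne', Finsupp.add_apply,
      Nat.prime_two.factorization_pow, Finsupp.single_eq_same, hOz, add_zero]
  have hsc : ∀ R : Subgroup G, R ≤ X → Nat.card R = Nat.card A →
      ∃ P : Sylow 2 X, (P : Subgroup X) = R.subgroupOf X := fun R hR hc =>
    ⟨Sylow.ofCard (R.subgroupOf X) (by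
      rw [Nat.card_congr (Subgroup.subgroupOfEquivOfLe hR).toEquiv, hc, hfacX, ← hA₀c, he]), rfl⟩
  obtain ⟨P, hP⟩ := hsc A₀ inf_le_right hA₀c
  obtain ⟨P', hP'⟩ := hsc B₀ inf_le_right hB₀c
  obtain ⟨g, hg⟩ := MulAction.exists_smul_eq X P' P
  have hA₀T : ∀ z ∈ A₀, z ∈ ((g : G) • T₀ : Sylow 2 G) := by
    intro z hz
    have hzP : (⟨z, hz.2⟩ : X) ∈ (P : Subgroup X) := by rw [hP]; exact hz
    rw [← hg, Sylow.coe_subgroup_smul] at hzP
    obtain ⟨w, hw, hwz⟩ := hzP
    have hw' : (w : G) ∈ B₀ := by rw [SetLike.mem_coe, hP'] at hw; exact hw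
    refine ⟨(w : G), hw'.1, ?_⟩
    exact congrArg Subtype.val hwz
  have hne₀ : S₀ ≠ (g : G) • T₀ := by
    intro h
    apply hne
    apply Sylow.ext
    rw [← hSimg, h, ← hTimg, Sylow.coe_subgroup_smul]
    have hgA : QuotientGroup.mk' O g ∈ (T : Subgroup (G ⧸ O)) := hAT g.2
    refine le_antisymm ?_ ?_
    · rintro _ ⟨_, ⟨w, hw, rfl⟩, rfl⟩
      rw [hTimg]
      show QuotientGroup.mk' O ((g : G) * w * (g : G)⁻¹) ∈ (T : Subgroup (G ⧸ O))
      rw [map_mul, map_mul, map_inv]
      refine mul_mem (mul_mem hgA ?_) (inv_mem hgA)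
      rw [← hTimg]; exact mem_map_of_mem _ hw
    · rw [hTimg]
      intro a ha
      have h' : (QuotientGroup.mk' O g)⁻¹ * a * QuotientGroup.mk' O g ∈ (T : Subgroup (G ⧸ O)) :=
        mul_mem (mul_mem (inv_mem hgA) ha) hgA
      rw [← hTimg] at h'
      obtain ⟨w, hw, hwa⟩ := h'
      refine ⟨(g : G) * w * (g : G)⁻¹, ⟨w, hw, rfl⟩, ?_⟩
      rw [map_mul, map_mul, map_inv, hwa]; group
  have hle : A₀ ≤ (S₀ : Subgroup G) ⊓ ((g : G) • T₀ : Sylow 2 G) :=
    fun z hz => mem_inf.2 ⟨hz.1, hA₀T z hz⟩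
  have hA₀comm : ∀ z ∈ A₀, ∀ w ∈ A₀, z * w = w * z := by
    intro z hz w hw
    have h1 : QuotientGroup.mk' O (z * w * (w * z)⁻¹) = 1 := by
      rw [map_mul, map_inv, map_mul, map_mul, mul_inv_eq_one]
      exact congrArg Subtype.val (hA.is_comm.comm (⟨_, hz.2⟩ : A) ⟨_, hw.2⟩)
    exact mul_inv_eq_one.1 (hSinj _ (mul_mem (mul_mem hz hw) (inv_mem (mul_mem hw hz))) h1)
  have h4 := hI S₀ _ hne₀ (A₀.subgroupOf _)
    ⟨⟨fun z w => Subtype.ext (Subtype.ext (hA₀comm _ z.2 _ w.2))⟩⟩
    (fun z hz => Subtype.ext (by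
      have : QuotientGroup.mk' O (((z : G)) ^ 2) = 1 := by rw [map_pow]; exact hA2 _ hz.2
      exact hSinj _ (pow_mem hz 2) this))
  rw [Nat.card_congr (Subgroup.subgroupOfEquivOfLe hle).toEquiv, hA₀c] at h4
  simpa using h4

theorem mulAut_q8_data {R : Subgroup Q} (e : Q8 ≃* R) (hR : R.Normal) (h48 : Nat.card Q = 48)
    (hC : centralizer (R : Set Q) ≤ R) {t x : Q} (ht : t ∉ R) (ht2 : t * t = 1)
    (hx : t * (x * t * x⁻¹) ∉ R) : Data Q (R.subtype.comp e.toMonoidHom) := by
  have hr : (R.subtype.comp e.toMonoidHom).range = R := by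
    rw [MonoidHom.range_comp, MonoidHom.range_eq_top.2 e.surjective, ← MonoidHom.range_eq_map,
      R.range_subtype]
  exact ⟨R.subtype_injective.comp e.injective, by rw [hr]; exact hR, h48, by rw [hr]; exact hC,
    t, x, by rw [hr]; exact ht, ht2, by rw [hr]; exact hx⟩

theorem main [Group.IsSolvable Q] (hO : Cfsg.pPrimeCore 2 Q = ⊥)
    (hI : ∀ S T : Sylow 2 Q, S ≠ T → ∀ A : Subgroup Q, IsMulCommutative A → (∀ a ∈ A, a ^ 2 = 1) →
      A ≤ S → A ≤ T → Nat.card A ≤ 2) :
    (∃ P : Sylow 2 Q, (P : Subgroup Q).Normal) ∨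
    Nonempty (Q ≃* GL (Fin 2) (ZMod 3)) ∨
    (Nat.card Q = 48 ∧ Nat.card ↥(Subgroup.center Q) = 2 ∧
      Nonempty (Q ⧸ Subgroup.center Q ≃* Equiv.Perm (Fin 4)) ∧
      ∀ P : Sylow 2 Q, Nonempty (↥(P : Subgroup Q) ≃* QuaternionGroup 4)) := by
  classical
  haveI : Fact (Nat.Prime 2) := ⟨Nat.prime_two⟩
  by_cases hn : ∃ P : Sylow 2 Q, (P : Subgroup Q).Normal
  · exact Or.inl hn
  right
  push Not at hn
  obtain ⟨S⟩ : Nonempty (Sylow 2 Q) := inferInstance
  set R := Cfsg.pCore 2 Q with hR
  haveI hRn : R.Normal := H40.pCore_normal' 2 Q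
  have hR2 : IsPGroup 2 R := H40.isPGroup_pCore 2 Q
  have hC := H77.centralizer_pCore_le (G := Q) 2 hO
  obtain ⟨T, hTS⟩ : ∃ T : Sylow 2 Q, T ≠ S := by
    by_contra h
    push Not at h
    haveI : Subsingleton (Sylow 2 Q) := ⟨fun P P' => (h P).trans (h P').symm⟩
    exact hn S (Sylow.normal_of_subsingleton S)
  have hRle : ∀ P : Sylow 2 Q, R ≤ P := fun P => by
    obtain ⟨P', hP'⟩ := hR2.exists_le_sylow
    obtain ⟨g, hg⟩ := MulAction.exists_smul_eq Q P' P
    intro z hz
    rw [← hg, Sylow.coe_subgroup_smul]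
    exact ⟨g⁻¹ * z * g, hP' (by simpa using hRn.conj_mem z hz g⁻¹), by simp [mul_assoc]⟩
  have hrank : ∀ A : Subgroup Q, IsMulCommutative A → (∀ a ∈ A, a ^ 2 = 1) → A ≤ R → Nat.card A ≤ 2 :=
    fun A h1 h2 h3 => hI T S hTS A h1 h2 (h3.trans (hRle T)) (h3.trans (hRle S))
  -- an element of odd order moving `R`
  have hodd : ∃ x : Q, Odd (orderOf x) ∧ x ∉ centralizer (R : Set Q) := by
    by_contra h
    push Not at h
    have h2 : IsPGroup 2 Q := by
      rw [IsPGroup.iff_card]
      refine ⟨_, Nat.eq_prime_pow_of_unique_prime_dvd Nat.card_pos.ne'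
        fun {d} hd hdvd => ?_⟩
      by_contra hne
      haveI : Fact d.Prime := ⟨hd⟩
      obtain ⟨x, hx⟩ := exists_prime_orderOf_dvd_card' d hdvd
      have hxR := hC (h x (hx ▸ hd.odd_of_ne_two hne))
      obtain ⟨k, hk⟩ := hR2 ⟨x, hxR⟩
      have h3 : d ∣ 2 ^ k := hx ▸ orderOf_dvd_of_pow_eq_one (congrArg Subtype.val hk)
      exact hne ((Nat.prime_dvd_prime_iff_eq hd Nat.prime_two).1 (hd.dvd_of_dvd_pow h3))
    refine hn S ?_
    have : (S : Subgroup Q) = ⊤ := Subgroup.eq_top_of_card_eq _ (by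
      obtain ⟨k, hk⟩ := h2.exists_card_eq
      rw [S.card_eq_multiplicity, hk, Nat.prime_two.factorization_pow, Finsupp.single_eq_same])
    rw [this]; infer_instance
  obtain ⟨x, hxo, hxC⟩ := hodd
  -- `R` is quaternion of order eight
  let σ : MulAut R := MulAut.conjNormal x
  have hσne : σ ≠ 1 := fun h => hxC (by
    rw [mem_centralizer_iff]
    intro z hz
    have h' : x * z * x⁻¹ = z := congrArg Subtype.val (DFunLike.congr_fun h (⟨z, hz⟩ : R))
    exact (mul_inv_eq_iff_eq_mul.1 h').symm)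
  have hσo : σ ^ orderOf x = 1 := by
    rw [← map_pow, pow_orderOf_eq_one, map_one]
  have huniq : ∀ H K : Subgroup R, Nat.card H = 2 → Nat.card K = 2 → H = K := by
    intro H K hH hK
    by_contra hne
    haveI hZ : Nontrivial R := by
      obtain ⟨a, b, hab⟩ := Finite.one_lt_card_iff_nontrivial.1 (show 1 < Nat.card H by omega)
      exact ⟨a, b, fun e => hab (Subtype.ext e)⟩
    haveI := hR2.center_nontrivial
    obtain ⟨z, hz⟩ := exists_prime_orderOf_dvd_card' (G := center R) 2 (by
      rcases (hR2.to_subgroup (center R)).card_eq_or_dvd with h | h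
      · exact absurd h Finite.one_lt_card.ne'
      · exact h)
    have hz2 : (z : R) ^ 2 = 1 := by
      rw [← Subgroup.coe_pow, ← hz, pow_orderOf_eq_one, Subgroup.coe_one]
    have hzo : orderOf (z : R) = 2 := by rw [Subgroup.orderOf_coe]; exact hz
    obtain ⟨L, hL, hLne⟩ : ∃ L : Subgroup R, Nat.card L = 2 ∧ L ≠ zpowers (z : R) := by
      by_cases h : H = zpowers (z : R)
      · exact ⟨K, hK, fun e => hne (h.trans e.symm)⟩
      · exact ⟨H, hH, h⟩
    obtain ⟨l, hl⟩ := exists_prime_orderOf_dvd_card' (G := L) 2 (by rw [hL])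
    have hlo : orderOf (l : R) = 2 := by rw [Subgroup.orderOf_coe]; exact hl
    have hLl : zpowers (l : R) = L := Subgroup.eq_of_le_of_card_ge (zpowers_le.2 l.2)
      (by rw [Nat.card_zpowers, hlo, hL])
    let B : Subgroup R :=
      { carrier := {1, (z : R), (l : R), (z : R) * l}
        one_mem' := by simp
        mul_mem' := by
          have hzl : (l : R) * z = z * l := mem_center_iff.1 z.2 l
          have hl2 : (l : R) * l = 1 := by rw [← pow_two, ← hlo, pow_orderOf_eq_one]
          have hzz : (z : R) * z = 1 := by rw [← pow_two]; exact hz2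
          have e1 : (z : R) * (z * l) = l := by rw [← mul_assoc, hzz, one_mul]
          have e2 : (l : R) * (z * l) = z := by rw [← mul_assoc, hzl, mul_assoc, hl2, mul_one]
          have e3 : (z : R) * l * z = l := by rw [mul_assoc, hzl, e1]
          have e4 : (z : R) * l * l = z := by rw [mul_assoc, hl2, mul_one]
          have e5 : (z : R) * l * (z * l) = 1 := by rw [mul_assoc, e2, hzz]
          rintro a b (rfl | rfl | rfl | rfl) (rfl | rfl | rfl | rfl) <;>
            simp [hzl, hl2, hzz, e1, e2, e3, e4, e5]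
        inv_mem' := by
          have hl2 : (l : R) * l = 1 := by rw [← pow_two, ← hlo, pow_orderOf_eq_one]
          have hzz : (z : R) * z = 1 := by rw [← pow_two]; exact hz2
          have hzl : (l : R) * z = z * l := mem_center_iff.1 z.2 l
          rintro a (rfl | rfl | rfl | rfl) <;>
            simp [inv_eq_of_mul_eq_one_right hl2, inv_eq_of_mul_eq_one_right hzz, hzl] }
    have hzne : (z : R) ≠ 1 := fun e => by rw [e, orderOf_one] at hzo; omega
    have hlne : (l : R) ≠ 1 := fun e => by rw [e, orderOf_one] at hlo; omega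
    have hzlne : (z : R) ≠ l := fun e => hLne (by rw [← hLl, e])
    have hB4 : 4 ≤ Nat.card (B.map R.subtype) := by
      rw [Subgroup.card_map_of_injective R.subtype_injective, ← SetLike.coe_sort_coe, Nat.card_coe_set_eq]
      show 4 ≤ ({1, (z : R), (l : R), (z : R) * l} : Set R).ncard
      rw [Set.ncard_insert_of_notMem, Set.ncard_insert_of_notMem, Set.ncard_pair]
      · exact fun e => hzne (mul_eq_right.1 e.symm)
      · rintro (h | h)
        · exact hzlne h
        · exact hlne (mul_eq_left.1 h.symm)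
      · rintro (h | h | h)
        · exact hzne h.symm
        · exact hlne h.symm
        · apply hzlne
          have hl2 : (l : R) * l = 1 := by rw [← pow_two, ← hlo, pow_orderOf_eq_one]
          exact (eq_inv_of_mul_eq_one_left h.symm).trans (inv_eq_of_mul_eq_one_right hl2)
    have hmemB : ∀ b ∈ B, b = 1 ∨ b = (z : R) ∨ b = (l : R) ∨ b = (z : R) * l := fun b hb => hb
    have := hrank (B.map R.subtype) ⟨⟨by
        rintro ⟨_, a, ha, rfl⟩ ⟨_, b, hb, rfl⟩
        refine Subtype.ext ?_
        show (R.subtype a) * R.subtype b = R.subtype b * R.subtype a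
        rw [← map_mul, ← map_mul]
        congr 1
        have hzc : ∀ r : R, r * z = z * r := fun r => mem_center_iff.1 z.2 r
        rcases hmemB a ha with rfl | rfl | rfl | rfl <;> rcases hmemB b hb with rfl | rfl | rfl | rfl <;>
          simp only [one_mul, mul_one, mul_assoc, hzc] <;> simp only [← mul_assoc, hzc]⟩⟩
      (by
        rintro _ ⟨a, ha, rfl⟩
        rw [← map_pow]
        have hl2 : (l : R) ^ 2 = 1 := by rw [← hlo, pow_orderOf_eq_one]
        have hcz : Commute (z : R) l := (mem_center_iff.1 z.2 l).symm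
        rcases hmemB a ha with rfl | rfl | rfl | rfl <;>
          simp [hz2, hl2, hcz.mul_pow])
      (Subgroup.map_subtype_le _)
    omega
  obtain ⟨e⟩ : Nonempty (Q8 ≃* R) := by
    rcases H21.cyclic_or_quaternion 2 hR2 huniq with hc | ⟨-, n, ⟨f⟩⟩
    · exact absurd (H23.mulAut_eq_one_of_isCyclic hR2 σ hxo hσo) hσne
    · let σ' : MulAut (⊤ : Subgroup (QuaternionGroup (2 ^ n))) :=
        MulAut.congr (f.trans Subgroup.topEquiv.symm) σ
      obtain ⟨g⟩ := H23.q8_of_odd_auto (n := n) ⊤ σ' hxo (by rw [← map_pow, hσo, map_one])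
        (fun h => hσne ((MulAut.congr (f.trans Subgroup.topEquiv.symm)).injective (h.trans (map_one _).symm)))
      exact ⟨g.trans (Subgroup.topEquiv.trans f.symm)⟩
  have hR8 : Nat.card R = 8 := by
    rw [← Nat.card_congr e.toEquiv, Nat.card_eq_fintype_card, QuaternionGroup.card]
  -- the order is 48
  have hZ : ∀ g : Q, g ∈ centralizer (R : Set Q) → g = 1 ∨ g = ((e (a 2) : R) : Q) := by
    intro g hg
    have hgR := hC hg
    obtain ⟨r, hr⟩ := e.surjective ⟨g, hgR⟩
    rcases center_q8 r (fun y => e.injective (by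
      rw [map_mul, map_mul, hr]
      exact Subtype.ext (mem_centralizer_iff.1 hg _ (e y).2).symm)) with rfl | rfl
    · left; exact (congrArg Subtype.val (hr.symm.trans (map_one e)) : g = ((1 : R) : Q))
    · right; exact (congrArg Subtype.val hr).symm
  haveI := card_mulAut_le.1
  haveI : Finite (MulAut R) := Finite.of_equiv _ (MulAut.congr e).toEquiv
  let ψ : Q →* MulAut R := MulAut.conjNormal
  have hker : ψ.ker = centralizer (R : Set Q) := by
    ext g
    rw [MonoidHom.mem_ker, mem_centralizer_iff]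
    constructor
    · intro h z hz
      have h' : g * z * g⁻¹ = z := congrArg Subtype.val (DFunLike.congr_fun h (⟨z, hz⟩ : R))
      exact (mul_inv_eq_iff_eq_mul.1 h').symm
    · intro h
      refine MulEquiv.ext fun z => Subtype.ext ?_
      show g * (z : Q) * g⁻¹ = z
      rw [← h z z.2, mul_inv_cancel_right]
  have hZ2 : Nat.card (centralizer (R : Set Q)) ≤ 2 := by
    have hsub : (centralizer (R : Set Q) : Set Q) ⊆ ({1, ((e (a 2) : R) : Q)} : Finset Q) := fun g hg => by
      simpa using hZ g hg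
    rw [← SetLike.coe_sort_coe, Nat.card_coe_set_eq]
    refine (Set.ncard_le_ncard hsub (Finset.finite_toSet _)).trans ?_
    rw [Set.ncard_coe_finset]
    exact Finset.card_le_two
  have hle48 : Nat.card Q ≤ 48 := by
    have h := ψ.ker.index_mul_card
    rw [Subgroup.index_ker, hker] at h
    have h1 := Subgroup.card_le_card_group ψ.range
    have h2 : Nat.card (MulAut R) ≤ 24 := by
      rw [← Nat.card_congr (MulAut.congr e).toEquiv]; exact card_mulAut_le.2
    nlinarith
  have hSR : R < S := lt_of_le_of_ne (hRle S) fun h => hn S (h ▸ hRn)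
  have h16 : 16 ∣ Nat.card (S : Subgroup Q) := by
    obtain ⟨k, hk⟩ := S.2.exists_card_eq
    have h8 : (8 : ℕ) < 2 ^ k := by
      rw [← hk, ← hR8]
      exact lt_of_not_ge fun h => hSR.ne (Subgroup.eq_of_le_of_card_ge hSR.le h)
    rw [hk, show (16 : ℕ) = 2 ^ 4 from rfl]
    refine pow_dvd_pow 2 ?_
    by_contra h
    have := Nat.pow_le_pow_right (show 2 > 0 by norm_num) (show k ≤ 3 by omega)
    omega
  have h16Q : 16 ∣ Nat.card Q := h16.trans (Subgroup.card_subgroup_dvd_card _)
  have hnodd : ¬ IsPGroup 2 Q := fun h => by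
    obtain ⟨k, hk⟩ := h x
    have h1 : orderOf x ∣ 2 ^ k := orderOf_dvd_of_pow_eq_one hk
    have h2 : orderOf x = 1 :=
      Nat.eq_one_of_dvd_coprimes ((Nat.coprime_two_left.2 hxo).pow_left k) h1 dvd_rfl
    rw [orderOf_eq_one_iff] at h2
    exact hxC (h2 ▸ one_mem _)
  have h48 : Nat.card Q = 48 := by
    obtain ⟨c, hc⟩ := h16Q
    have hc3 : c ≤ 3 := by omega
    interval_cases c
    · exact absurd hc Nat.card_pos.ne'
    · exact absurd (IsPGroup.of_card (n := 4) hc) hnodd
    · exact absurd (IsPGroup.of_card (n := 5) hc) hnodd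
    · exact hc
  have hS16 : ∀ P : Sylow 2 Q, Nat.card P = 16 := fun P => by
    rw [P.card_eq_multiplicity, h48, show (48 : ℕ) = 2 ^ 4 * 3 from rfl,
      Nat.factorization_mul (by norm_num) (by norm_num), Finsupp.add_apply,
      Nat.prime_two.factorization_pow, Finsupp.single_eq_same,
      Nat.factorization_eq_zero_of_not_dvd (by norm_num)]
    rfl
  by_cases hinv : ∃ t : Q, t ∉ R ∧ t * t = 1
  · left
    obtain ⟨t, htR, ht2⟩ := hinv
    obtain ⟨g, hg⟩ : ∃ g : Q, t * (g * t * g⁻¹) ∉ R := by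
      by_contra h
      push Not at h
      -- then `R⟨t⟩` would be a normal Sylow subgroup
      set P := R ⊔ zpowers t
      have hTp : IsPGroup 2 (zpowers t) := IsPGroup.of_card_dvd_pow (n := 1) (by
        rw [Nat.card_zpowers, pow_one]
        exact orderOf_dvd_of_pow_eq_one (by rw [pow_two, ht2]))
      have hPn : P.Normal := by
        constructor
        intro p hp g
        obtain ⟨r, hr, s, hs, rfl⟩ := Subgroup.mem_sup_of_normal_left.1 hp
        have hgt : g * t * g⁻¹ ∈ P := by
          rw [show g * t * g⁻¹ = t⁻¹ * (t * (g * t * g⁻¹)) by group]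
          exact mul_mem (inv_mem (mem_sup_right (mem_zpowers t))) (mem_sup_left (h g))
        obtain ⟨k, rfl⟩ := hs
        rw [show g * (r * t ^ k) * g⁻¹ = (g * r * g⁻¹) * (g * t * g⁻¹) ^ k by rw [conj_zpow]; group]
        exact mul_mem (mem_sup_left (hRn.conj_mem r hr g)) (zpow_mem hgt k)
      obtain ⟨P', hP'⟩ := (IsPGroup.to_sup_of_normal_left hR2 hTp).exists_le_sylow
      have : P = P' := Subgroup.eq_of_le_of_card_ge hP' (by
        have hlt : R < P := lt_of_le_of_ne le_sup_left fun e => htR (e ▸ mem_sup_right (mem_zpowers t))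
        obtain ⟨c, hc⟩ := Subgroup.card_dvd_of_le hlt.le
        have h9 : Nat.card R < Nat.card P :=
          lt_of_not_ge fun h => hlt.ne (Subgroup.eq_of_le_of_card_ge hlt.le h)
        rw [hS16 P']
        rw [hR8] at hc h9
        have : 2 ≤ c := by
          by_contra h
          interval_cases c <;> omega
        omega)
      exact hn P' (this ▸ hPn)
    exact nonempty_equiv (mulAut_q8_data e hRn h48 hC htR ht2 hg) gl_data
  · right
    push Not at hinv
    haveI hCn : (centralizer (R : Set Q)).Normal := hker ▸ inferInstance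
    set z : Q := ((e (a 2) : R) : Q)
    have hzc : z ∈ centralizer (R : Set Q) := by
      rw [mem_centralizer_iff]
      intro r hr
      obtain ⟨s, hs⟩ := e.surjective ⟨r, hr⟩
      rw [show r = ((e s : R) : Q) by rw [hs]]
      exact congrArg Subtype.val (by rw [← map_mul, ← map_mul, key_a2] : e s * e (a 2) = e (a 2) * e s)
    have hz1 : z ≠ 1 := fun h => a2_ne (e.injective (Subtype.ext (h.trans (by rw [map_one]; rfl))))
    have hCZ : centralizer (R : Set Q) = center Q := by
      refine le_antisymm (fun g hg => mem_center_iff.2 fun h => ?_) (center_le_centralizer _)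
      have h' := hCn.conj_mem g hg h
      rcases hZ g hg with rfl | rfl
      · simp
      · rcases hZ _ h' with h1 | h1
        · exact absurd (conj_eq_one_iff.1 h1) hz1
        · exact mul_inv_eq_iff_eq_mul.1 h1
    have hc2 : Nat.card (center Q) = 2 := by
      rw [← hCZ]
      refine le_antisymm hZ2 ?_
      haveI : Nontrivial (centralizer (R : Set Q)) :=
        ⟨⟨⟨z, hzc⟩, 1, fun h => hz1 (congrArg Subtype.val h)⟩⟩
      exact Finite.one_lt_card
    refine ⟨h48, hc2, ?_, ?_⟩
    · have hcardK : Nat.card (Q ⧸ center Q) = 24 := by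
        have := (center Q).index_mul_card
        rw [h48, hc2] at this
        rw [← Subgroup.index]; omega
      haveI : (R.map (QuotientGroup.mk' (center Q))).Normal :=
        Subgroup.Normal.map hRn _ (QuotientGroup.mk'_surjective _)
      refine H91.Sims.nonempty_mulEquiv_perm_four hcardK (R.map (QuotientGroup.mk' (center Q))) ?_ ?_
      · have hZR : center Q ≤ R := hCZ ▸ hC
        have h := Subgroup.relIndex_ker (f := QuotientGroup.mk' (center Q)) R
        rw [QuotientGroup.ker_mk'] at h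
        rw [← h]
        have h2 := Subgroup.relIndex_mul_relIndex (⊥ : Subgroup Q) (center Q) R bot_le hZR
        rw [Subgroup.relIndex_bot_left, Subgroup.relIndex_bot_left, hc2, hR8] at h2
        omega
      · -- the preimage of the centralizer stabilises the chain
        intro k hk
        obtain ⟨g, rfl⟩ := QuotientGroup.mk'_surjective (center Q) k
        have hst : ∀ r : R, ψ g r = r ∨ ψ g r = r * e (a 2) := by
          intro r
          have h1 := mem_centralizer_iff.1 hk _ (mem_map_of_mem _ r.2)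
          have h2 : g * (r : Q) * g⁻¹ * (r : Q)⁻¹ ∈ center Q := by
            rw [← QuotientGroup.ker_mk' (center Q), MonoidHom.mem_ker, map_mul, map_mul, map_mul,
              map_inv, map_inv, ← h1]
            group
          rcases hZ _ (hCZ ▸ h2) with h3 | h3
          · left; exact Subtype.ext (mul_inv_eq_one.1 h3)
          · right
            refine Subtype.ext ?_
            show g * (r : Q) * g⁻¹ = (r : Q) * ((e (a 2) : R) : Q)
            rw [mul_inv_eq_iff_eq_mul.1 h3, mem_centralizer_iff.1 hzc r r.2]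
        -- so it acts on `R` as an inner automorphism
        obtain ⟨r, hr⟩ := inner_of_stab (fun r => e.symm (ψ g (e r)))
          (fun r s => by simp only [map_mul]) (fun r => by
            rcases hst (e r) with h | h
            · left; simp only [h, MulEquiv.symm_apply_apply]
            · right; simp only [h, ← map_mul, MulEquiv.symm_apply_apply])
        refine ⟨((e r : R) : Q), (e r).2, ?_⟩
        rw [QuotientGroup.mk'_apply, QuotientGroup.mk'_apply, QuotientGroup.eq, ← hCZ]
        rw [mem_centralizer_iff]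
        intro s hs
        obtain ⟨u, hu⟩ := e.surjective ⟨s, hs⟩
        have h4 : ψ g (e u) = e r * e u * (e r)⁻¹ := by
          rw [← map_inv, ← map_mul, ← map_mul, ← hr u]
          simp
        have h5 : g * s * g⁻¹ = ((e r : R) : Q) * s * ((e r : R) : Q)⁻¹ := by
          have h6 := congrArg Subtype.val h4
          rw [Subgroup.coe_mul, Subgroup.coe_mul, Subgroup.coe_inv, hu] at h6
          exact h6
        calc s * (((e r : R) : Q)⁻¹ * g) = ((e r : R) : Q)⁻¹ * ((((e r : R) : Q) * s * ((e r : R) : Q)⁻¹) * g) := by group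
          _ = ((e r : R) : Q)⁻¹ * ((g * s * g⁻¹) * g) := by rw [h5]
          _ = ((e r : R) : Q)⁻¹ * g * s := by group
    · intro P
      have hu : ∀ H K : Subgroup (P : Subgroup Q), Nat.card H = 2 → Nat.card K = 2 → H = K := by
        intro H K hH hK
        have key : ∀ L : Subgroup (P : Subgroup Q), Nat.card L = 2 →
            L.map (P : Subgroup Q).subtype = zpowers z := by
          intro L hL
          obtain ⟨l, hl⟩ := exists_prime_orderOf_dvd_card' (G := L) 2 (by rw [hL])
          have hlo : orderOf ((P : Subgroup Q).subtype (l : (P : Subgroup Q))) = 2 := by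
            rw [Subgroup.coe_subtype, Subgroup.orderOf_coe, Subgroup.orderOf_coe]; exact hl
          set w := (P : Subgroup Q).subtype (l : (P : Subgroup Q))
          have hw2 : w * w = 1 := by rw [← pow_two, ← hlo, pow_orderOf_eq_one]
          have hwR : w ∈ R := by
            by_contra h
            exact hinv w h hw2
          obtain ⟨r, hr⟩ := e.surjective ⟨w, hwR⟩
          have hwz : w = z := by
            rcases q8_unique_involution r (e.injective (by
              rw [map_mul, hr, map_one]; exact Subtype.ext hw2)) with rfl | rfl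
            · exfalso
              have : w = 1 := by
                have := congrArg Subtype.val hr
                rw [map_one] at this
                exact this.symm
              rw [this, orderOf_one] at hlo; omega
            · exact (congrArg Subtype.val hr).symm
          refine (Subgroup.eq_of_le_of_card_ge ?_ ?_).symm
          · rw [zpowers_le, ← hwz]
            exact mem_map_of_mem _ l.2
          · rw [Subgroup.card_map_of_injective (P : Subgroup Q).subtype_injective, hL, Nat.card_zpowers,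
              ← hwz, hlo]
        exact Subgroup.map_injective (P : Subgroup Q).subtype_injective ((key H hH).trans (key K hK).symm)
      rcases H21.cyclic_or_quaternion 2 P.2 hu with hc | ⟨-, n, ⟨f⟩⟩
      · exfalso
        haveI := hc
        have : IsCyclic R := Subgroup.isCyclic_of_le (hRle P)
        exact hσne (H23.mulAut_eq_one_of_isCyclic hR2 σ hxo hσo)
      · have h := Nat.card_congr f.toEquiv
        rw [hS16 P, Nat.card_eq_fintype_card, QuaternionGroup.card] at h
        have hn : 2 ^ n = 4 := by omega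
        rw [hn] at f
        exact ⟨f⟩

theorem of_group {G : Type*} [Group G] [Finite G] (hs : Group.IsSolvable G)
    (hI : ∀ S T : Sylow 2 G, S ≠ T → Cfsg.PRankLE 2 1 ↥((S : Subgroup G) ⊓ (T : Subgroup G))) :
    (∃ P : Sylow 2 (G ⧸ Cfsg.oddCore G), (P : Subgroup (G ⧸ Cfsg.oddCore G)).Normal) ∨
    Nonempty ((G ⧸ Cfsg.oddCore G) ≃* GL (Fin 2) (ZMod 3)) ∨
    (Nat.card (G ⧸ Cfsg.oddCore G) = 48 ∧ Nat.card ↥(Subgroup.center (G ⧸ Cfsg.oddCore G)) = 2 ∧
      Nonempty ((G ⧸ Cfsg.oddCore G) ⧸ Subgroup.center (G ⧸ Cfsg.oddCore G) ≃* Equiv.Perm (Fin 4)) ∧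
      ∀ P : Sylow 2 (G ⧸ Cfsg.oddCore G), Nonempty (↥(P : Subgroup (G ⧸ Cfsg.oddCore G)) ≃* QuaternionGroup 4)) :=
  main (H19.pPrimeCore_quotient_pPrimeCore 2)
    (quotient_hyp (Cfsg.oddCore G) (H19.pPrimeCore_coprime 2) hI)

end Cfsg.Agent.H60.RankOneInter
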