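import Mathlib
import Cfsg.Agent.H22.Frobenius
import Cfsg.Prelude.Def_Local

/-!
Sylow subgroups attached to a tightly embedded subgroup.
-/

set_option autoImplicit false

namespace Cfsg.Agent.H60

open Subgroup

variable {G : Type*} [Group G]

/-- A product `Y * Z` with `Z` normalising `Y`. -/
theorem exists_mul_of_mem_sup_normalizing {Y Z : Subgroup G} (h : Z ≤ normalizer (Y : Set G)) {x : G}
    (hx : x ∈ Y ⊔ Z) : ∃ y ∈ Y, ∃ z ∈ Z, x = y * z := by
  rw [← SetLike.mem_coe, coe_mul_of_right_le_normalizer_left Y Z h] at hx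
  obtain ⟨y, hy, z, hz, rfl⟩ := hx
  exact ⟨y, hy, z, hz, rfl⟩

/-- A subgroup of a direct product `Y × Z` meeting `Z` trivially embeds into `Y`. -/
theorem exists_injective_to_left {X Y Z : Subgroup G} (hc : ∀ y ∈ Y, ∀ z ∈ Z, y * z = z * y)
    (hYZ : Y ⊓ Z = ⊥) (hX : X ≤ Y ⊔ Z) (hXZ : X ⊓ Z = ⊥) :
    ∃ f : X →* Y, Function.Injective f := by
  let F : Y × Z →* G := Y.subtype.noncommCoprod Z.subtype fun y z => hc y y.2 z z.2
  have hFi : Function.Injective F := by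
    rw [injective_iff_map_eq_one]
    rintro ⟨⟨y, hy⟩, ⟨z, hz⟩⟩ h
    have h' : y * z = 1 := h
    have hyz : y ∈ Y ⊓ Z := ⟨hy, by rw [eq_inv_of_mul_eq_one_left h']; exact Subgroup.inv_mem _ hz⟩
    rw [hYZ, mem_bot] at hyz
    subst hyz
    rw [one_mul] at h'
    subst h'
    rfl
  have hrange : ∀ x : X, (x : G) ∈ F.range := by
    intro x
    obtain ⟨y, hy, z, hz, e⟩ := exists_mul_of_mem_sup_normalizing
      (Y := Y) (Z := Z) (fun z hz => mem_normalizer_iff.mpr fun y => by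
        constructor
        · intro hy; rw [← hc y hy z hz, mul_inv_cancel_right]; exact hy
        · intro hy
          have h1 := hc _ hy z hz
          rw [inv_mul_cancel_right] at h1
          exact mul_left_cancel h1 ▸ hy) (hX x.2)
    exact ⟨(⟨y, hy⟩, ⟨z, hz⟩), e.symm⟩
  let e := MonoidHom.ofInjective hFi
  let g : X →* Y × Z := e.symm.toMonoidHom.comp (X.subtype.codRestrict F.range hrange)
  refine ⟨(MonoidHom.fst Y Z).comp g, (injective_iff_map_eq_one _).mpr fun x hx => ?_⟩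
  have hFg : F (g x) = (x : G) := congrArg Subtype.val (e.apply_symm_apply ⟨_, hrange x⟩)
  have h1 : (g x).1 = 1 := hx
  have h2 : (x : G) ∈ Z := by
    rw [← hFg]
    show ((g x).1 : G) * (g x).2 ∈ Z
    rw [h1, OneMemClass.coe_one, one_mul]
    exact (g x).2.2
  have h3 : (x : G) ∈ X ⊓ Z := ⟨x.2, h2⟩
  rw [hXZ, mem_bot] at h3
  exact Subtype.ext h3

/-- An injective homomorphism between subgroups of equal order gives an isomorphism. -/
theorem nonempty_mulEquiv_of_injective [Finite G] {X Y : Subgroup G} (f : X →* Y)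
    (hf : Function.Injective f) (h : Nat.card Y ≤ Nat.card X) : Nonempty (X ≃* Y) :=
  ⟨MulEquiv.ofBijective f (hf.bijective_of_nat_card_le h)⟩

/-- A full Sylow `p`-subgroup of a product `Q * T` with `T ∩ Q = 1` meets `Q` in a full Sylow subgroup of `Q`. -/
theorem not_dvd_relIndex_inf [Finite G] {p : ℕ} {Q T S : Subgroup G} (hQT : T ≤ normalizer (Q : Set G))
    (hTQ : T ⊓ Q = ⊥) (hTS : T ≤ S) (hS : S ≤ Q ⊔ T) (h : ¬ p ∣ S.relIndex (Q ⊔ T)) :
    ¬ p ∣ (S ⊓ Q).relIndex Q := by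
  have key : ∀ (A : Subgroup G), T ≤ normalizer (A : Set G) → A ≤ Q →
      Nat.card ↥(A ⊔ T) = Nat.card A * Nat.card T := by
    intro A hA hAQ
    have hd : Disjoint A T := disjoint_iff.mpr (le_bot_iff.mp (by
      rw [← hTQ]; exact le_inf inf_le_right (inf_le_left.trans hAQ)))
    have hinj : Function.Injective (fun q : A × T => (q.1 : G) * q.2) := by
      rintro ⟨a, t⟩ ⟨a', t'⟩ e
      simp only at e
      have e' : (a' : G)⁻¹ * a = t' * (t : G)⁻¹ := by
        rw [eq_mul_inv_iff_mul_eq, mul_assoc, e, inv_mul_cancel_left]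
      have h1 : (a' : G)⁻¹ * a = 1 :=
        Subgroup.disjoint_def.mp hd (mul_mem (inv_mem a'.2) a.2) (e' ▸ mul_mem t'.2 (inv_mem t.2))
      have ha : a = a' := (Subtype.ext (inv_mul_eq_one.mp h1)).symm
      subst ha
      exact Prod.ext rfl (Subtype.ext (mul_left_cancel e))
    rw [← Nat.card_prod]
    refine (Nat.card_congr (Equiv.ofBijective
      (fun q : A × T => (⟨(q.1 : G) * q.2, mul_mem (mem_sup_left q.1.2) (mem_sup_right q.2.2)⟩ : ↥(A ⊔ T)))
      ⟨fun a b e => hinj (congrArg Subtype.val e), ?_⟩)).symm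
    rintro ⟨x, hx⟩
    obtain ⟨a, ha, t, ht, rfl⟩ := exists_mul_of_mem_sup_normalizing hA hx
    exact ⟨(⟨a, ha⟩, ⟨t, ht⟩), rfl⟩
  have hSQ : T ≤ normalizer ((S ⊓ Q : Subgroup G) : Set G) :=
    (le_inf (hTS.trans le_normalizer) hQT).trans inf_normalizer_le_normalizer_inf
  have hSeq : (S ⊓ Q) ⊔ T = S := by
    refine le_antisymm (sup_le inf_le_left hTS) fun x hx => ?_
    obtain ⟨q, hq, t, ht, rfl⟩ := exists_mul_of_mem_sup_normalizing hQT (hS hx)
    refine mul_mem (mem_sup_left ⟨?_, hq⟩) (mem_sup_right ht)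
    simpa using mul_mem hx (inv_mem (hTS ht))
  have h1 := key Q hQT le_rfl
  have h2 := key (S ⊓ Q) hSQ inf_le_right
  rw [hSeq] at h2
  have h3 : S.relIndex (Q ⊔ T) * Nat.card S = Nat.card ↥(Q ⊔ T) := by
    rw [mul_comm, ← relIndex_bot_left, ← relIndex_bot_left]
    exact relIndex_mul_relIndex _ _ _ bot_le hS
  have h4 : (S ⊓ Q).relIndex Q * Nat.card ↥(S ⊓ Q) = Nat.card Q := by
    rw [mul_comm, ← relIndex_bot_left, ← relIndex_bot_left]
    exact relIndex_mul_relIndex _ _ _ bot_le inf_le_right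
  rw [h1, h2, ← h4, ← mul_assoc] at h3
  have h5 := mul_right_cancel₀ Nat.card_pos.ne' h3
  have h6 := mul_right_cancel₀ Nat.card_pos.ne' h5
  rwa [← h6]

/-- Conjugates of distinct translates of a tightly embedded subgroup share no involution-containing 2-group. -/
theorem inf_eq_bot_of_tightlyEmbedded [Finite G] {Q X : Subgroup G} (hQ : Cfsg.IsTightlyEmbedded Q)
    (hX : IsPGroup 2 X) {g : G} (hg : g ∉ normalizer (Q : Set G)) :
    X ⊓ (Q ⊓ Q.map (MulAut.conj g).toMonoidHom) = ⊥ := by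
  obtain ⟨k, hk⟩ := (hX.to_inf_left (K := Q ⊓ Q.map (MulAut.conj g).toMonoidHom)).exists_card_eq
  refine Subgroup.card_eq_one.mp ?_
  rcases Nat.eq_zero_or_pos k with rfl | hk0
  · simpa using hk
  · exfalso
    have hd : 2 ∣ Nat.card ↥(Q ⊓ Q.map (MulAut.conj g).toMonoidHom) :=
      (hk ▸ dvd_pow_self 2 hk0.ne').trans (card_dvd_of_le inf_le_right)
    exact (Nat.not_even_iff_odd.mpr (hQ.2 g hg)) (even_iff_two_dvd.mpr hd)

/-- If two commuting 2-subgroups lie in `Q` and a translate, and their product is not full, one embeds in the other. -/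
theorem exists_embedding_of_lt [Finite G] {A B R T W : Subgroup G}
    (hcRT : ∀ t ∈ T, ∀ r ∈ R, t * r = r * t) (hRT : R ⊓ T = ⊥) (hRA : R ≤ A) (hTB : T ≤ B)
    (hW : IsPGroup 2 W) (hRTW : R ⊔ T < W) (hWB : ∀ w ∈ W, ∃ b ∈ W ⊓ B, ∃ r ∈ R, w = b * r)
    (hBT : ∀ b ∈ W ⊓ B, b ∈ normalizer (A : Set G) → b ∈ T)
    (htight : ∀ x : G, x ∉ normalizer (A : Set G) → R ⊓ A.map (MulAut.conj x).toMonoidHom = ⊥)
    (hRB : R ⊓ B = ⊥) (hTBW : T ≤ W) :
    ∃ f : R →* T, Function.Injective f := by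
  have : Fact (Nat.Prime 2) := ⟨Nat.prime_two⟩
  obtain ⟨w, hw, hwn⟩ := SetLike.exists_of_lt (H22.lt_inf_normalizer_of_lt hW hRTW)
  obtain ⟨b, hb, r, hr, rfl⟩ := hWB w hw.1
  have hbn : b ∈ normalizer ((R ⊔ T : Subgroup G) : Set G) := by
    have := mul_mem hw.2 (Subgroup.inv_mem _ (le_normalizer (mem_sup_left (T := T) hr)))
    simpa using this
  have hbA : b ∉ normalizer (A : Set G) := fun h =>
    hwn (mul_mem (mem_sup_right (hBT b hb h)) (mem_sup_left hr))
  set Rb := R.map (MulAut.conj b).toMonoidHom with hRb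
  have h1 : Rb ≤ T ⊔ R := by
    rintro _ ⟨x, hx, rfl⟩
    rw [sup_comm]
    exact (mem_normalizer_iff.mp hbn x).mp (mem_sup_left hx)
  have h2 : Rb ⊓ R = ⊥ := by
    rw [← le_bot_iff, ← htight b hbA, inf_comm]
    exact inf_le_inf_left _ (map_mono hRA)
  obtain ⟨f, hf⟩ := exists_injective_to_left hcRT (by rw [inf_comm]; exact hRT) h1 h2
  let e : R ≃* Rb := R.equivMapOfInjective (MulAut.conj b).toMonoidHom (MulAut.conj b).injective
  exact ⟨f.comp e.toMonoidHom, hf.comp e.injective⟩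

/-- For a tightly embedded `Q`, the centraliser part of `T ≤ Qᵍ` inside `Q` is isomorphic to `T`. -/
theorem tightlyEmbedded_complement_iso [Finite G] {Q T S : Subgroup G} (hQ : Cfsg.IsTightlyEmbedded Q)
    {g : G} (hg : g ∉ normalizer (Q : Set G)) (hT1 : T ≠ ⊥)
    (hTB : T ≤ Q.map (MulAut.conj g).toMonoidHom) (hTN : T ≤ normalizer (Q : Set G))
    (hTfull : ∀ U : Subgroup G, IsPGroup 2 U → T ≤ U →
      U ≤ Q.map (MulAut.conj g).toMonoidHom ⊓ normalizer (Q : Set G) → U = T)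
    (hTS : T ≤ S) (hS : S ≤ Q ⊔ T) (hSp : IsPGroup 2 S) (hSsyl : ¬ 2 ∣ S.relIndex (Q ⊔ T)) :
    Nonempty (↥(S ⊓ normalizer (T : Set G) ⊓ Q) ≃* T) := by
  have : Fact (Nat.Prime 2) := ⟨Nat.prime_two⟩
  set B := Q.map (MulAut.conj g).toMonoidHom with hB
  set R := S ⊓ normalizer (T : Set G) ⊓ Q with hR
  have hTp : IsPGroup 2 T := hSp.to_le hTS
  have hRp : IsPGroup 2 R := hSp.to_le (inf_le_left.trans inf_le_left)
  have hQB : ∀ X : Subgroup G, IsPGroup 2 X → X ⊓ (Q ⊓ B) = ⊥ := fun X hX =>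
    inf_eq_bot_of_tightlyEmbedded hQ hX hg
  have hTQ : T ⊓ Q = ⊥ := le_bot_iff.mp ((hQB T hTp) ▸
    le_inf inf_le_left (le_inf inf_le_right (inf_le_left.trans hTB)))
  have hRB : R ⊓ B = ⊥ := le_bot_iff.mp ((hQB R hRp) ▸
    le_inf inf_le_left (le_inf (inf_le_left.trans inf_le_right) inf_le_right))
  have hRT : R ⊓ T = ⊥ := le_bot_iff.mp (hRB ▸ inf_le_inf_left R hTB)
  have hcomm : ∀ t ∈ T, ∀ r ∈ R, t * r = r * t := by
    intro t ht r hr
    have h1 : r * t * r⁻¹ * t⁻¹ ∈ T ⊓ Q := ⟨mul_mem ((mem_normalizer_iff.mp hr.1.2 t).mp ht) (Subgroup.inv_mem _ ht), by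
      rw [mul_assoc, mul_assoc, ← mul_assoc t r⁻¹]
      exact mul_mem hr.2 ((mem_normalizer_iff.mp (hTN ht) r⁻¹).mp (inv_mem hr.2))⟩
    rw [hTQ, mem_bot, mul_inv_eq_one, mul_inv_eq_iff_eq_mul] at h1
    exact h1.symm
  -- distinct translates of `B`
  have hconjB : ∀ x : G, x ∉ normalizer (B : Set G) → T ⊓ B.map (MulAut.conj x).toMonoidHom = ⊥ := by
    intro x hx
    have hy : g⁻¹ * x * g ∉ normalizer (Q : Set G) := by
      intro h
      apply hx
      have h2 : MulAut.conj g (g⁻¹ * x * g) ∈ normalizer (B : Set G) :=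
        le_normalizer_map (H := Q) (MulAut.conj g).toMonoidHom ⟨_, h, rfl⟩
      rwa [MulAut.conj_apply, show g * (g⁻¹ * x * g) * g⁻¹ = x by group] at h2
    have h3 := inf_eq_bot_of_tightlyEmbedded hQ (hTp.map (MulAut.conj g⁻¹).toMonoidHom) hy
    rw [eq_bot_iff]
    rintro t ⟨ht, b, ⟨q, hq, rfl⟩, e⟩
    have h4 : g⁻¹ * t * g ∈ T.map (MulAut.conj g⁻¹).toMonoidHom ⊓
        (Q ⊓ Q.map (MulAut.conj (g⁻¹ * x * g)).toMonoidHom) := by
      refine ⟨⟨t, ht, by simp⟩, ?_, ⟨q, hq, ?_⟩⟩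
      · obtain ⟨q', hq', rfl⟩ := hTB ht
        simpa [mul_assoc] using hq'
      · rw [← e]; simp [mul_assoc]
    rw [h3, mem_bot] at h4
    have : t = g * (g⁻¹ * t * g) * g⁻¹ := by group
    rw [mem_bot, this, h4]; group
  have hRNB : R ≤ normalizer (B : Set G) := by
    intro r hr
    by_contra h
    apply hT1
    rw [← le_bot_iff, ← hconjB r h]
    refine le_inf le_rfl fun t ht => ⟨t, hTB ht, ?_⟩
    show r * t * r⁻¹ = t
    rw [← hcomm t ht r hr, mul_inv_cancel_right]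
  -- the two halves
  have hRfull : ¬ 2 ∣ (S ⊓ Q).relIndex Q := not_dvd_relIndex_inf hTN hTQ hTS hS hSsyl
  have hSdec : ∀ s ∈ S, ∃ q ∈ S ⊓ Q, ∃ t ∈ T, s = q * t := by
    intro s hs
    obtain ⟨q, hq, t, ht, rfl⟩ := exists_mul_of_mem_sup_normalizing hTN (hS hs)
    exact ⟨q, ⟨by simpa using mul_mem hs (inv_mem (hTS ht)), hq⟩, t, ht, rfl⟩
  have hRTS : R ⊔ T ≤ S := sup_le (inf_le_left.trans inf_le_left) hTS
  -- `T` into `R` unless `R` is full
  have hA : (∃ f : T →* R, Function.Injective f) ∨ R = S ⊓ Q := by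
    by_cases hlt : R ⊔ T < S
    · left
      refine exists_embedding_of_lt (A := B) (B := Q) (W := S) (fun r hr t ht => (hcomm t ht r hr).symm)
        (by rw [inf_comm]; exact hRT) hTB inf_le_right hSp (by rw [sup_comm]; exact hlt) hSdec ?_ hconjB hTQ
        (inf_le_left.trans inf_le_left)
      intro q hq hqn
      refine ⟨⟨hq.1, mem_normalizer_iff.mpr fun t => ?_⟩, hq.2⟩
      have hc : ∀ t ∈ T, q * t * q⁻¹ = t := by
        intro t ht
        have h1 : q * t * q⁻¹ * t⁻¹ ∈ S ⊓ (Q ⊓ B) := by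
          refine ⟨mul_mem (mul_mem (mul_mem hq.1 (hTS ht)) (Subgroup.inv_mem _ hq.1)) (Subgroup.inv_mem _ (hTS ht)), ?_,
            mul_mem ((mem_normalizer_iff.mp hqn t).mp (hTB ht)) (Subgroup.inv_mem _ (hTB ht))⟩
          rw [mul_assoc, mul_assoc, ← mul_assoc t q⁻¹]
          exact mul_mem hq.2 ((mem_normalizer_iff.mp (hTN ht) q⁻¹).mp (inv_mem hq.2))
        rw [hQB S hSp, mem_bot, mul_inv_eq_one] at h1
        exact h1
      refine ⟨fun ht => (hc t ht).symm ▸ ht, fun ht => ?_⟩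
      have h1 := hc _ ht
      have h2 : q * t * q⁻¹ = t := by
        have := congrArg (fun z => q⁻¹ * z * q) h1
        simpa [mul_assoc] using this
      rwa [h2] at ht
    · right
      have hSeq : R ⊔ T = S := eq_of_le_of_not_lt hRTS hlt
      refine le_antisymm (le_inf (inf_le_left.trans inf_le_left) inf_le_right) fun x hx => ?_
      refine ⟨⟨hx.1, ?_⟩, hx.2⟩
      have h1 : x ∈ R ⊔ T := by rw [hSeq]; exact hx.1
      exact sup_le (inf_le_left.trans inf_le_right) le_normalizer h1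
  -- `R` into `T` unless `T` is full
  obtain ⟨W₀, hW₀⟩ : ∃ W₀ : Sylow 2 ↥(B ⊔ R), ((R ⊔ T).subgroupOf (B ⊔ R)) ≤ W₀ :=
    IsPGroup.exists_le_sylow ((hSp.to_le hRTS).comap_subtype)
  set W := (W₀ : Subgroup ↥(B ⊔ R)).map (B ⊔ R).subtype with hW
  have hWp : IsPGroup 2 W := W₀.2.map _
  have hRTW : R ⊔ T ≤ W := by
    intro x hx
    exact ⟨⟨x, sup_le le_sup_right (hTB.trans le_sup_left) hx⟩, hW₀ (mem_subgroupOf.mpr hx), rfl⟩
  have hWle : W ≤ B ⊔ R := map_subtype_le _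
  have hWsyl : ¬ 2 ∣ W.relIndex (B ⊔ R) := by
    rw [relIndex, subgroupOf, hW, comap_map_eq_self_of_injective (B ⊔ R).subtype_injective]
    exact W₀.not_dvd_index
  have hBfull : ¬ 2 ∣ (W ⊓ B).relIndex B :=
    not_dvd_relIndex_inf hRNB hRB (le_sup_left.trans hRTW) hWle hWsyl
  have hWdec : ∀ w ∈ W, ∃ b ∈ W ⊓ B, ∃ r ∈ R, w = b * r := by
    intro w hw
    obtain ⟨b, hb, r, hr, rfl⟩ := exists_mul_of_mem_sup_normalizing hRNB (hWle hw)
    exact ⟨b, ⟨by simpa using mul_mem hw (inv_mem (hRTW (mem_sup_left hr))), hb⟩, r, hr, rfl⟩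
  have hWN : ∀ b ∈ W ⊓ B, b ∈ normalizer (Q : Set G) → b ∈ T := by
    intro b hb hbn
    have h1 := hTfull (W ⊓ B ⊓ normalizer (Q : Set G)) (hWp.to_le (inf_le_left.trans inf_le_left))
      (le_inf (le_inf (le_sup_right.trans hRTW) hTB) hTN) (le_inf (inf_le_left.trans inf_le_right) inf_le_right)
    rw [← h1]
    exact ⟨hb, hbn⟩
  have hC : (∃ f : R →* T, Function.Injective f) ∨ T = W ⊓ B := by
    by_cases hlt : R ⊔ T < W
    · left
      refine exists_embedding_of_lt (A := Q) (B := B) hcomm hRT inf_le_right hTB hWp hlt hWdec hWN ?_ hRB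
        (le_sup_right.trans hRTW)
      intro x hx
      have h1 := inf_eq_bot_of_tightlyEmbedded hQ hRp hx
      rw [← le_bot_iff, ← h1]
      exact le_inf inf_le_left (le_inf (inf_le_left.trans inf_le_right) inf_le_right)
    · right
      have hWeq : R ⊔ T = W := eq_of_le_of_not_lt hRTW hlt
      refine le_antisymm (le_inf (le_sup_right.trans hRTW) hTB) fun x hx => hWN x hx ?_
      have h1 : x ∈ R ⊔ T := by rw [hWeq]; exact hx.1
      exact sup_le (inf_le_right.trans le_normalizer) hTN h1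
  -- comparison with the full Sylow subgroups
  have hSQp : IsPGroup 2 ↥(S ⊓ Q) := hSp.to_le inf_le_left
  have hWBp : IsPGroup 2 ↥(W ⊓ B) := hWp.to_le inf_le_left
  let P₁ : Sylow 2 ↥B := (hWBp.comap_subtype (K := B)).toSylow hBfull
  let P₂ : Sylow 2 ↥Q := (hSQp.comap_subtype (K := Q)).toSylow hRfull
  let P₃ : Sylow 2 ↥B := P₂.mapSurjective
    (f := (Q.equivMapOfInjective (MulAut.conj g).toMonoidHom (MulAut.conj g).injective).toMonoidHom)
    (MulEquiv.surjective _)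
  have e₁ : (P₁ : Subgroup ↥B) ≃* ↥(W ⊓ B) :=
    (MulEquiv.subgroupCongr (IsPGroup.toSylow_coe _ _)).trans (Subgroup.subgroupOfEquivOfLe inf_le_right)
  have e₂ : (P₂ : Subgroup ↥Q) ≃* ↥(S ⊓ Q) :=
    (MulEquiv.subgroupCongr (IsPGroup.toSylow_coe _ _)).trans (Subgroup.subgroupOfEquivOfLe inf_le_right)
  have e₃ : (P₂ : Subgroup ↥Q) ≃* (P₃ : Subgroup ↥B) :=
    ((P₂ : Subgroup ↥Q).equivMapOfInjective
      (Q.equivMapOfInjective (MulAut.conj g).toMonoidHom (MulAut.conj g).injective).toMonoidHom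
      (MulEquiv.injective _)).trans (MulEquiv.subgroupCongr (Sylow.coe_mapSurjective _ _).symm)
  have E : ↥(S ⊓ Q) ≃* ↥(W ⊓ B) := (e₂.symm.trans e₃).trans ((P₃.equiv P₁).trans e₁)
  have hEcard : Nat.card ↥(S ⊓ Q) = Nat.card ↥(W ⊓ B) := Nat.card_congr E.toEquiv
  have hRle : R ≤ S ⊓ Q := le_inf (inf_le_left.trans inf_le_left) inf_le_right
  have hTle : T ≤ W ⊓ B := le_inf (le_sup_right.trans hRTW) hTB
  rcases hA with ⟨f, hf⟩ | hRe
  · obtain ⟨e⟩ : Nonempty (T ≃* R) := by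
      refine nonempty_mulEquiv_of_injective f hf ?_
      rcases hC with ⟨f', hf'⟩ | hTe
      · exact Nat.card_le_card_of_injective f' hf'
      · rw [hTe, ← hEcard]
        exact Nat.le_of_dvd Nat.card_pos (card_dvd_of_le hRle)
    exact ⟨e.symm⟩
  · rcases hC with ⟨f', hf'⟩ | hTe
    · refine nonempty_mulEquiv_of_injective f' hf' ?_
      rw [hRe, hEcard]
      exact Nat.le_of_dvd Nat.card_pos (card_dvd_of_le hTle)
    · rw [hRe, hTe]
      exact ⟨E⟩

end Cfsg.Agent.H60
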